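import Cfsg.Agent.Lib.Lie.Chev.Order
import Cfsg.Agent.Lib.Lie.Chev.FieldMap
import Mathlib.GroupTheory.PGroup
import Mathlib.Algebra.Polynomial.Roots

/-!
# Orders, and elements of prime order in the diagonal subgroup

If `r` divides `Q - 1` and no degree, every element of order `r` of the group over the field of
`Q` elements is conjugate into the diagonal subgroup.
-/

set_option autoImplicit false

namespace CfsgLib.Lie.CoxTorus

open Cfsg.Lie CfsgLib.Lie.Chev
open scoped MatrixGroups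
open Polynomial

variable {D : ChevalleyDatum} (C : Full D)

/-- the degrees of the Weyl group, in the form given by the factorised length polynomial -/
def HasDegrees (dg : Fin D.rank → ℕ) : Prop :=
  ∀ q : ℤ, Psum C.G Finset.univ q * (q - 1) ^ D.rank = ∏ i, (q ^ dg i - 1)

theorem Psum_eq_prod {dg : Fin D.rank → ℕ} (h : HasDegrees C dg) (q : ℤ) :
    Psum C.G Finset.univ q = ∏ i, ∑ j ∈ Finset.range (dg i), q ^ j := by
  classical
  set P : ℤ[X] := Psum C.G Finset.univ (X : ℤ[X]) with hP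
  have hev : ∀ x : ℤ, P.eval x = Psum C.G Finset.univ x := fun x => by
    simp [hP, Psum, eval_finset_sum]
  have h1 : P * (X - 1) ^ D.rank = (∏ i, ∑ j ∈ Finset.range (dg i), X ^ j) * (X - 1) ^ D.rank := by
    refine Polynomial.funext fun x => ?_
    rw [eval_mul, eval_mul, hev, eval_pow, eval_sub, eval_X, eval_one, h x, eval_prod]
    simp only [eval_finset_sum, eval_pow, eval_X]
    rw [show ((x - 1) ^ D.rank : ℤ) = ∏ _i : Fin D.rank, (x - 1) by simp, ← Finset.prod_mul_distrib]
    exact Finset.prod_congr rfl fun i _ => (geom_sum_mul x (dg i)).symm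
  have h2 := congrArg (Polynomial.eval q) (mul_right_cancel₀ (pow_ne_zero _
    (fun e : (X : ℤ[X]) - 1 = 0 => X_sub_C_ne_zero (1 : ℤ) (by rwa [C_1]))) h1)
  rw [hev, eval_prod] at h2
  simpa [eval_finset_sum] using h2

theorem Psum_one {dg : Fin D.rank → ℕ} (h : HasDegrees C dg) [DecidablePred (· ∈ C.G.Wg)] :
    (Fintype.card C.G.Wg : ℤ) = ∏ i, (dg i : ℤ) := by
  classical
  have h1 := Psum_eq_prod C h 1
  simp only [one_pow, Finset.sum_const, Finset.card_range, nsmul_eq_mul, mul_one] at h1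
  rw [← h1, Psum]
  simp only [one_pow, Finset.sum_const, nsmul_eq_mul, mul_one]
  have e : WJ C.G Finset.univ = C.G.Wg := by
    rw [WJ, Good.Wg, Finset.coe_univ, Set.image_univ]
  rw [e, Fintype.card_subtype]
  norm_cast
  congr

theorem cast_dvd_prime {r : ℕ} (hr : r.Prime) {dg : Fin D.rank → ℕ} (hdg : ∀ i, ¬ r ∣ dg i)
    [DecidablePred (· ∈ C.G.Wg)] (h : HasDegrees C dg) : ¬ r ∣ Fintype.card C.G.Wg := by
  intro hd
  have h1 : (r : ℤ) ∣ ((∏ i, dg i : ℕ) : ℤ) := by
    push_cast
    rw [← Psum_one C h]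
    exact_mod_cast hd
  obtain ⟨i, -, hi⟩ := (Prime.dvd_finsetProd_iff hr.prime _).1 (Int.natCast_dvd_natCast.1 h1)
  exact hdg i hi

section

variable {T : KerData D.rank} (hT : T.Ok (cmat D)) (hk : T.k = 0) {K : Type*} [Field K] [Fintype K]

include C hT hk

theorem card_group_eq {dg : Fin D.rank → ℕ} (h : HasDegrees C dg) :
    (Nat.card ↥(D.group K) : ℤ) = (Fintype.card K : ℤ) ^ (D.nroots / 2) *
      ((∏ i, ∑ j ∈ Finset.range (dg i), (Fintype.card K : ℤ) ^ j) *
        ((Fintype.card K : ℤ) - 1) ^ D.rank) := by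
  have h1 := C.order_formula (K := K) T hT
  rw [hk, pow_zero, one_mul, Psum_eq_prod C h] at h1
  exact h1

theorem tor_mem (v : Fin D.rank → Kˣ) : C.G.tor v ∈ D.diagonalSubgroup K := by
  classical
  have hinj : Function.Injective (C.G.torθ (K := K)) :=
    C.G.torθ_injective T hT (by rw [hk, pow_zero])
  let f : (Fin D.rank → Kˣ) → (Fin D.rank → Kˣ) :=
    fun c l => ∏ i, c i ^ cart D i (C.G.simp' l)
  have hθ : ∀ c, C.G.torθ c = C.G.tor (f c) := fun c => rfl
  have hf : Function.Injective f := fun a b hab => hinj (by rw [hθ, hθ, hab])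
  obtain ⟨c, rfl⟩ := Finite.surjective_of_injective hf v
  rw [← hθ, C.G.diagonal_eq_range]
  exact ⟨c, rfl⟩

theorem card_diag_eq : Nat.card ↥(D.diagonalSubgroup K) = (Fintype.card K - 1) ^ D.rank := by
  have h := C.G.card_diagonal (K := K) T hT
  rwa [hk, pow_zero, one_mul] at h

/-- elements of order `r` are conjugate into the diagonal subgroup -/
theorem exists_conj_diag {dg : Fin D.rank → ℕ} (h : HasDegrees C dg) {r : ℕ} (hr : r.Prime)
    (hdg : ∀ i, ¬ r ∣ dg i) (hQ : (Fintype.card K : ZMod r) = 1)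
    {x : GL D.Idx K} (hx : x ∈ D.group K) (hord : x ^ r = 1) :
    ∃ c ∈ D.group K, ∃ v : Fin D.rank → Kˣ, x * c = c * C.G.tor v := by
  classical
  haveI := Fact.mk hr
  haveI : Finite (GL D.Idx K) := inferInstance
  set T' := (D.diagonalSubgroup K).subgroupOf (D.group K)
  have hcard : Nat.card T' = (Fintype.card K - 1) ^ D.rank := by
    rw [Nat.card_congr (Subgroup.subgroupOfEquivOfLe C.G.diagonal_le_group).toEquiv,
      card_diag_eq C hT hk]
  have hidx : ¬ r ∣ Nat.card (↥(D.group K) ⧸ T') := by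
    have h1 := card_group_eq C hT hk (K := K) h
    have h2 := Subgroup.card_eq_card_quotient_mul_card_subgroup T'
    have hK : 1 ≤ Fintype.card K := Fintype.card_pos
    rw [h2, hcard, Nat.cast_mul, Nat.cast_pow, Nat.cast_sub hK, Nat.cast_one, ← mul_assoc] at h1
    have hne : ((Fintype.card K : ℤ) - 1) ^ D.rank ≠ 0 := by
      have := Fintype.one_lt_card (α := K)
      exact pow_ne_zero _ (by omega)
    have h3 := mul_right_cancel₀ hne h1
    intro hd
    have h4 : ((Nat.card (↥(D.group K) ⧸ T') : ℤ) : ZMod r) = 0 := by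
      rw [Int.cast_natCast]
      exact (ZMod.natCast_eq_zero_iff _ _).2 hd
    rw [h3] at h4
    push_cast at h4
    simp only [hQ, one_pow, one_mul, Finset.sum_const, Finset.card_range, nsmul_eq_mul, mul_one,
      Finset.prod_eq_zero_iff, Finset.mem_univ, true_and] at h4
    obtain ⟨i, hi⟩ := h4
    exact hdg i ((ZMod.natCast_eq_zero_iff _ _).1 hi)
  set X : ↥(D.group K) := ⟨x, hx⟩
  have hX : X ^ r = 1 := Subtype.ext hord
  have hP : IsPGroup r (Subgroup.zpowers X) := by
    rintro ⟨y, hy⟩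
    obtain ⟨k, rfl⟩ := Subgroup.mem_zpowers_iff.1 hy
    refine ⟨1, Subtype.ext ?_⟩
    show (X ^ k) ^ r ^ 1 = 1
    rw [pow_one, ← zpow_natCast (X ^ k), ← zpow_mul, mul_comm, zpow_mul, zpow_natCast, hX, one_zpow]
  obtain ⟨P, hP'⟩ := hP.nonempty_fixed_point_of_prime_not_dvd_card (↥(D.group K) ⧸ T') hidx
  induction P using QuotientGroup.induction_on with
  | H c =>
    have h5 := hP' ⟨X, Subgroup.mem_zpowers X⟩
    have h6 : c⁻¹ * (X * c) ∈ T' := (QuotientGroup.eq).1 h5.symm
    have h7 : ((c⁻¹ * (X * c) : ↥(D.group K)) : GL D.Idx K) ∈ D.diagonalSubgroup K := h6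
    obtain ⟨v, hv⟩ := C.G.exists_tor h7
    refine ⟨c.1, c.2, v, ?_⟩
    rw [← hv, Subgroup.coe_mul, Subgroup.coe_mul, Subgroup.coe_inv, mul_inv_cancel_left]

end

end CfsgLib.Lie.CoxTorus
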