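import Mathlib.LinearAlgebra.Matrix.Charpoly.Coeff
import Mathlib.LinearAlgebra.Matrix.ToLinearEquiv
import Mathlib.RingTheory.Polynomial.Cyclotomic.Roots
import Mathlib.RingTheory.Polynomial.Cyclotomic.Expand
import Mathlib.Algebra.Ring.GeomSum
import Mathlib.Data.ZMod.Basic

/-!
# Integer matrices with a cyclotomic characteristic polynomial

An integer matrix `N` of finite order with an eigenvalue of exact order `h` modulo a prime, of size
`φ(h)`, has characteristic polynomial `Φ_h`. The orbit of a non-zero vector is then independent,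
and a matrix of finite order commuting with `N` that fixes a non-zero vector modulo the prime is the
identity.
-/

set_option autoImplicit false

namespace CfsgLib.Lie.CoxTorus

open Matrix Polynomial

variable {l : ℕ}

/-- reduction of an integer matrix -/
def red (R : Type*) [CommRing R] : Matrix (Fin l) (Fin l) ℤ →+* Matrix (Fin l) (Fin l) R :=
  (Int.castRingHom R).mapMatrix

theorem red_apply {R : Type*} [CommRing R] (M : Matrix (Fin l) (Fin l) ℤ) (i j : Fin l) :
    red R M i j = (M i j : R) := rfl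

theorem pow_mulVec_eigen {R : Type*} [CommRing R] {M : Matrix (Fin l) (Fin l) R} {e : Fin l → R}
    {μ : R} (hev : M *ᵥ e = μ • e) (k : ℕ) : (M ^ k) *ᵥ e = μ ^ k • e := by
  induction k with
  | zero => simp
  | succ k ih => rw [pow_succ, ← mulVec_mulVec, hev, mulVec_smul, ih, smul_smul, pow_succ']

theorem aeval_mulVec_eigen {R : Type*} [CommRing R] {M : Matrix (Fin l) (Fin l) R} {e : Fin l → R}
    {μ : R} (hev : M *ᵥ e = μ • e) (p : R[X]) : (aeval M p) *ᵥ e = p.eval μ • e := by
  induction p using Polynomial.induction_on' with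
  | add p q hp hq => rw [map_add, add_mulVec, hp, hq, eval_add, add_smul]
  | monomial k a =>
    rw [aeval_monomial, ← Algebra.smul_def, smul_mulVec, pow_mulVec_eigen hev, smul_smul,
      eval_monomial]

theorem red_aeval {R : Type*} [CommRing R] (M : Matrix (Fin l) (Fin l) ℤ) (p : ℤ[X]) :
    red R (aeval M p) = aeval (red R M) (p.map (Int.castRingHom R)) := by
  induction p using Polynomial.induction_on' with
  | add p q hp hq => simp [Polynomial.map_add, hp, hq]
  | monomial k a =>
    rw [map_monomial, aeval_monomial, aeval_monomial, map_mul, map_pow]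
    congr 1
    simp

/-- a matrix of finite order with a primitive eigenvalue modulo a prime -/
theorem cyclotomic_dvd_charpoly {h n r : ℕ} [Fact r.Prime]
    (N : Matrix (Fin l) (Fin l) ℤ) (hN : N ^ n = 1) (hrn : ¬ r ∣ n) (e : Fin l → ZMod r)
    (he : e ≠ 0) {μ : ZMod r} (hμ : IsPrimitiveRoot μ h)
    (hev : red (ZMod r) N *ᵥ e = μ • e) : cyclotomic h ℚ ∣ (red ℚ N).charpoly := by
  classical
  obtain ⟨j, hj⟩ := Function.ne_iff.1 he
  simp only [Pi.zero_apply] at hj
  have hn0 : n ≠ 0 := fun e0 => hrn (e0 ▸ dvd_zero r)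
  have hμn : μ ^ n = 1 := by
    have h1 := congrFun (pow_mulVec_eigen hev n) j
    rw [← map_pow, hN, map_one, one_mulVec, Pi.smul_apply, smul_eq_mul] at h1
    exact mul_right_cancel₀ hj (h1.symm.trans (one_mul _).symm)
  have hdvd : h ∣ n := hμ.dvd_of_pow_eq_one n hμn
  set P : ℤ[X] := ∏ d ∈ n.divisors.erase h, cyclotomic d ℤ with hP
  have hfac : cyclotomic h ℤ * P = X ^ n - 1 := by
    rw [hP, Finset.mul_prod_erase n.divisors (fun d => cyclotomic d ℤ)
      (Nat.mem_divisors.2 ⟨hdvd, hn0⟩), prod_cyclotomic_eq_X_pow_sub_one (Nat.pos_of_ne_zero hn0)]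
  have hroot : ((cyclotomic h ℤ).map (Int.castRingHom (ZMod r))).eval μ = 0 := by
    rw [map_cyclotomic]
    exact IsPrimitiveRoot.isRoot_cyclotomic (Nat.pos_of_ne_zero fun h0 => hn0 (by simpa [h0] using hdvd)) hμ
  have hPμ : (P.map (Int.castRingHom (ZMod r))).eval μ ≠ 0 := by
    intro h0
    have h1 := congrArg (fun p : ℤ[X] =>
      (derivative (p.map (Int.castRingHom (ZMod r)))).eval μ) hfac
    simp only [Polynomial.map_mul, derivative_mul, eval_add, eval_mul, hroot, h0, mul_zero,
      zero_mul, add_zero, Polynomial.map_sub, Polynomial.map_pow, map_X, Polynomial.map_one,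
      derivative_sub, derivative_X_pow, derivative_one, sub_zero, eval_C, eval_pow,
      eval_X] at h1
    rcases mul_eq_zero.1 h1.symm with h2 | h2
    · exact hrn ((ZMod.natCast_eq_zero_iff _ _).1 h2)
    · have : μ = 0 := pow_eq_zero_iff' |>.1 h2 |>.1
      rw [this, zero_pow hn0] at hμn
      exact zero_ne_one hμn
  have hPN : aeval N P ≠ 0 := by
    intro h0
    have h1 := congrFun (aeval_mulVec_eigen hev (P.map (Int.castRingHom (ZMod r)))) j
    rw [← red_aeval, h0, map_zero, zero_mulVec, Pi.smul_apply, smul_eq_mul, Pi.zero_apply] at h1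
    exact mul_ne_zero hPμ hj h1.symm
  have hirr : Irreducible (cyclotomic h ℚ) :=
    cyclotomic.irreducible_rat (Nat.pos_of_ne_zero fun h0 => hn0 (by simpa [h0] using hdvd))
  by_contra hndiv
  obtain ⟨a, b, hab⟩ := hirr.coprime_iff_not_dvd.2 hndiv
  have h1 := congrArg (aeval (red ℚ N)) hab
  rw [map_add, map_mul, map_mul, aeval_self_charpoly, mul_zero, add_zero, map_one] at h1
  have h2 : aeval (red ℚ N) (cyclotomic h ℚ) * aeval (red ℚ N) (P.map (Int.castRingHom ℚ)) = 0 := by
    rw [← map_mul, ← map_cyclotomic h (Int.castRingHom ℚ), ← Polynomial.map_mul, hfac, ← red_aeval]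
    simp [hN]
  apply hPN
  have h3 : red ℚ (aeval N P) = 0 := by
    rw [red_aeval, ← one_mul (aeval (red ℚ N) (P.map (Int.castRingHom ℚ))), ← h1, mul_assoc, h2,
      mul_zero]
  ext i k
  have := congrFun (congrFun h3 i) k
  simpa [red_apply] using this
/-- the order of a primitive eigenvalue is bounded by the size -/
theorem totient_le_of_eigen {h n r : ℕ} [Fact r.Prime] (N : Matrix (Fin l) (Fin l) ℤ) (hN : N ^ n = 1)
    (hrn : ¬ r ∣ n) (e : Fin l → ZMod r) (he : e ≠ 0) {μ : ZMod r} (hμ : IsPrimitiveRoot μ h)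
    (hev : red (ZMod r) N *ᵥ e = μ • e) : Nat.totient h ≤ l := by
  have hd := natDegree_le_of_dvd (cyclotomic_dvd_charpoly N hN hrn e he hμ hev)
    (Matrix.charpoly_monic _).ne_zero
  rwa [natDegree_cyclotomic, Matrix.charpoly_natDegree_eq_dim, Fintype.card_fin] at hd

/-- a matrix of finite order with a primitive eigenvalue modulo a prime, of size `φ(h)` -/
theorem charpoly_eq_cyclotomic {h n r : ℕ} [Fact r.Prime] (hl : Nat.totient h = l)
    (N : Matrix (Fin l) (Fin l) ℤ) (hN : N ^ n = 1) (hrn : ¬ r ∣ n) (e : Fin l → ZMod r)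
    (he : e ≠ 0) {μ : ZMod r} (hμ : IsPrimitiveRoot μ h)
    (hev : red (ZMod r) N *ᵥ e = μ • e) : N.charpoly = cyclotomic h ℤ := by
  apply Polynomial.map_injective (Int.castRingHom ℚ) Int.cast_injective
  rw [map_cyclotomic, ← Matrix.charpoly_map]
  exact eq_of_monic_of_dvd_of_natDegree_le (cyclotomic.monic _ _) (Matrix.charpoly_monic _)
    (cyclotomic_dvd_charpoly N hN hrn e he hμ hev)
    (by rw [Matrix.charpoly_natDegree_eq_dim, natDegree_cyclotomic, hl, Fintype.card_fin])

/-- the rows `a, a N, …, a N ^ (l - 1)` -/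
def orbitMat {R : Type*} [CommRing R] (N : Matrix (Fin l) (Fin l) R) (a : Fin l → R) :
    Matrix (Fin l) (Fin l) R :=
  Matrix.of fun i => a ᵥ* N ^ (i : ℕ)

theorem orbit_det_ne_zero' {k : Type*} [Field k] (N : Matrix (Fin l) (Fin l) k)
    (hirr : Irreducible N.charpoly) {a : Fin l → k} (ha : a ≠ 0) : (orbitMat N a).det ≠ 0 := by
  intro hdet
  obtain ⟨c, hc0, hc⟩ := Matrix.exists_vecMul_eq_zero_iff.2 hdet
  set p : k[X] := ∑ i : Fin l, C (c i) * X ^ (i : ℕ) with hp
  have hdeg : p.degree < l := by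
    refine lt_of_le_of_lt (degree_sum_le _ _) ((Finset.sup_lt_iff (WithBot.bot_lt_coe l)).2 ?_)
    exact fun i _ => lt_of_le_of_lt (degree_C_mul_X_pow_le _ _) (WithBot.coe_lt_coe.2 i.isLt)
  have hp0 : p ≠ 0 := by
    obtain ⟨i, hi⟩ := Function.ne_iff.1 hc0
    intro h0
    have := congrArg (fun f : k[X] => f.coeff i) h0
    simp [hp, Fin.val_inj] at this
    exact hi this
  have hap : a ᵥ* aeval N p = 0 := by
    rw [← hc]
    funext m
    simp only [hp, map_sum, map_mul, aeval_C, aeval_X_pow, ← Algebra.smul_def, vecMul_sum,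
      vecMul_smul, Finset.sum_apply, Pi.smul_apply, smul_eq_mul]
    rfl
  have hnd : ¬ N.charpoly ∣ p := fun hd => by
    have := degree_le_of_dvd hd hp0
    rw [Matrix.charpoly_degree_eq_dim, Fintype.card_fin] at this
    exact absurd (lt_of_le_of_lt this hdeg) (lt_irrefl _)
  obtain ⟨s, t, hst⟩ := hirr.coprime_iff_not_dvd.2 hnd
  have h1 := congrArg (aeval N) hst
  rw [map_add, map_mul, map_mul, aeval_self_charpoly, mul_zero, zero_add, map_one,
    ← map_mul, mul_comm t p, map_mul] at h1
  exact ha (by rw [← vecMul_one a, ← h1, ← vecMul_vecMul, hap, zero_vecMul])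

theorem orbit_det_ne_zero {h : ℕ} (hh : 0 < h) (N : Matrix (Fin l) (Fin l) ℤ)
    (hN : N.charpoly = cyclotomic h ℤ) {a : Fin l → ℤ} (ha : a ≠ 0) :
    (orbitMat N a).det ≠ 0 := by
  intro hdet
  have hq : red ℚ (orbitMat N a) = orbitMat (red ℚ N) (fun i => (a i : ℚ)) := by
    ext i m
    simp only [orbitMat, red_apply, Matrix.of_apply, vecMul, dotProduct, ← map_pow]
    push_cast
    rfl
  refine orbit_det_ne_zero' (red ℚ N) ?_ (a := fun i => (a i : ℚ)) ?_ ?_
  · rw [show red ℚ N = N.map (Int.castRingHom ℚ) from rfl, Matrix.charpoly_map, hN, map_cyclotomic]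
    exact cyclotomic.irreducible_rat hh
  · obtain ⟨i, hi⟩ := Function.ne_iff.1 ha
    exact Function.ne_iff.2 ⟨i, by simpa using hi⟩
  · rw [← hq, red, ← RingHom.map_det, hdet, map_zero]

theorem pow_eq_one_of_charpoly {h : ℕ} (N : Matrix (Fin l) (Fin l) ℤ)
    (hN : N.charpoly = cyclotomic h ℤ) : N ^ h = 1 := by
  obtain ⟨c, hc⟩ := cyclotomic.dvd_X_pow_sub_one h ℤ
  have := congrArg (aeval N) hc
  rw [map_mul, ← hN, aeval_self_charpoly, zero_mul, map_sub, map_pow, aeval_X, map_one] at this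
  exact sub_eq_zero.1 this

/-- a matrix of finite order prime to `r` that commutes with `N` and fixes a non-zero vector -/
theorem eq_one_of_commute_fix {h n r : ℕ} [Fact r.Prime] (hh : 0 < h) (hrn : ¬ r ∣ n)
    (N M : Matrix (Fin l) (Fin l) ℤ) (hN : N.charpoly = cyclotomic h ℤ) (hM : M ^ n = 1)
    (hc : Commute N M) (e : Fin l → ZMod r) (he : e ≠ 0) (hfix : red (ZMod r) M *ᵥ e = e) :
    M = 1 := by
  by_contra hne
  set S := ∑ i ∈ Finset.range n, M ^ i with hS
  have hzero : (M - 1) * S = 0 := by rw [hS, mul_geom_sum, hM, sub_self]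
  obtain ⟨i, hi⟩ : ∃ i, (M - 1) i ≠ 0 := by
    by_contra hall
    push Not at hall
    exact hne (sub_eq_zero.1 (funext hall))
  have hcS : Commute N S := Commute.sum_right _ _ _ fun k _ => hc.pow_right k
  have hrow : (M - 1) i ᵥ* S = 0 := congrFun hzero i
  have hA : orbitMat N ((M - 1) i) * S = 0 := by
    ext k m
    have : ((M - 1) i ᵥ* N ^ (k : ℕ)) ᵥ* S = 0 := by
      rw [vecMul_vecMul, (hcS.pow_left k).eq, ← vecMul_vecMul, hrow, zero_vecMul]
    exact congrFun this m
  have hdet := orbit_det_ne_zero hh N hN hi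
  have hS0 : S = 0 := by
    have h1 : (orbitMat N ((M - 1) i)).det • S = 0 := by
      rw [← one_mul S, ← smul_mul_assoc, ← adjugate_mul, mul_assoc, hA, mul_zero]
    exact (smul_eq_zero.1 h1).resolve_left hdet
  obtain ⟨j, hj⟩ := Function.ne_iff.1 he
  have hev : red (ZMod r) M *ᵥ e = (1 : ZMod r) • e := by rw [one_smul, hfix]
  have h2 : red (ZMod r) S *ᵥ e = (n : ZMod r) • e := by
    rw [hS, map_sum, sum_mulVec]
    simp only [map_pow, pow_mulVec_eigen hev, one_pow, one_smul, Finset.sum_const,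
      Finset.card_range, Nat.cast_smul_eq_nsmul]
  rw [hS0, map_zero, zero_mulVec] at h2
  have h3 := congrFun h2.symm j
  rw [Pi.smul_apply, smul_eq_mul, Pi.zero_apply, mul_eq_zero] at h3
  exact hrn ((ZMod.natCast_eq_zero_iff _ _).1 (h3.resolve_right hj))

end CfsgLib.Lie.CoxTorus
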