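import Cfsg.Agent.Lib.Lie.Chev.FieldMap
import Cfsg.Agent.Lib.Lie.Chev.Poincare
import Cfsg.Agent.Lib.Lie.Chev.CoxTorus.Lin

/-!
# Conjugation between elements of the torus

The matrix of a Weyl group element on the root lattice; two elements of the diagonal subgroup that
are conjugate in the group are conjugate by a monomial element.
-/

set_option autoImplicit false

namespace CfsgLib.Lie.CoxTorus

open Cfsg.Lie CfsgLib.Lie.Chev
open scoped MatrixGroups

variable {D : ChevalleyDatum} {K : Type*} [Field K] (C : Full D)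

/-- the matrix of a permutation of the roots in the basis of the fundamental roots -/
def wm (π : Equiv.Perm (Fin D.nroots)) : Matrix (Fin D.rank) (Fin D.rank) ℤ :=
  Matrix.of fun j k => C.G.rho (π (C.G.simp' j)) k

/-- no root is trivial on the character -/
def Reg (v : Fin D.rank → Kˣ) : Prop := ∀ s, C.G.chi v (C.G.rho s) ≠ 1

theorem rho_perm {π : Equiv.Perm (Fin D.nroots)} (hπ : π ∈ C.G.Wg) (s : Fin D.nroots) :
    C.G.rho (π s) = Matrix.vecMul (C.G.rho s) (wm C π) := by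
  obtain ⟨w, rfl⟩ := C.G.exists_pw hπ
  rw [C.G.rho_pw]
  funext k
  simp [Matrix.vecMul, dotProduct, wm, Finset.sum_apply]

theorem wm_one : wm C 1 = 1 := by
  ext j k
  simp [wm, C.G.rho_simp, Matrix.one_apply, Pi.single_apply, eq_comm]

theorem wm_mul {π π' : Equiv.Perm (Fin D.nroots)} (hπ : π ∈ C.G.Wg) :
    wm C (π * π') = wm C π' * wm C π := by
  ext j k
  simp only [wm, Matrix.of_apply, Equiv.Perm.mul_apply, rho_perm C hπ (π' (C.G.simp' j))]
  rfl

theorem wm_pow {π : Equiv.Perm (Fin D.nroots)} (hπ : π ∈ C.G.Wg) (n : ℕ) :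
    wm C (π ^ n) = wm C π ^ n := by
  induction n with
  | zero => exact wm_one C
  | succ n ih => rw [pow_succ, wm_mul C (pow_mem hπ n), ih, pow_succ']

theorem wm_pow_card [DecidablePred (· ∈ C.G.Wg)] {π : Equiv.Perm (Fin D.nroots)} (hπ : π ∈ C.G.Wg) :
    wm C π ^ Fintype.card C.G.Wg = 1 := by
  have h := congrArg Subtype.val (pow_card_eq_one (x := (⟨π, hπ⟩ : C.G.Wg)))
  simp only [SubmonoidClass.coe_pow, OneMemClass.coe_one] at h
  rw [← wm_pow C hπ, h, wm_one]

theorem eq_one_of_wm {π : Equiv.Perm (Fin D.nroots)} (hπ : π ∈ C.G.Wg) (h : wm C π = 1) : π = 1 := by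
  ext s : 1
  exact C.G.rho_injective (by rw [rho_perm C hπ, h, Matrix.vecMul_one, Equiv.Perm.one_apply])

/-- the character of a permuted root -/
theorem chi_perm_simp (v : Fin D.rank → Kˣ) (π : Equiv.Perm (Fin D.nroots)) (j : Fin D.rank) :
    C.G.chi v (C.G.rho (π (C.G.simp' j))) = ∏ k, v k ^ wm C π j k := rfl

theorem mem_Wg_of_monomial {n : GL D.Idx K} (hn : n ∈ D.monomialSubgroup K)
    {π : Equiv.Perm (Fin D.nroots)} (hπ : C.G.NPerm n π) : π ∈ C.G.Wg := by
  obtain ⟨h, hh, w, rfl⟩ := C.G.monomial_decomp hn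
  have := Good.NPerm.mul C.G (C.G.nPerm_H hh) (C.G.nPerm_nw (K := K) w)
  rw [one_mul] at this
  exact Good.NPerm.unique C.G this hπ ▸ C.G.pw_mem w

/-- conjugation between two tori elements by an element permuting the root subgroups -/
theorem chi_of_conj {g : GL D.Idx K} {π : Equiv.Perm (Fin D.nroots)} (hg : C.G.NPerm g π)
    {a b : Fin D.rank → Kˣ} (h : g * C.G.tor a = C.G.tor b * g) (s : Fin D.nroots) :
    C.G.chi b (C.G.rho (π s)) = C.G.chi a (C.G.rho s) := by
  obtain ⟨c, hc⟩ := hg s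
  have h1 := C.G.tor_conj_xu b (π s) ((c : K) * 1)
  have hb : C.G.tor b = g * C.G.tor a * g⁻¹ := by rw [h, mul_inv_cancel_right]
  rw [← hc 1, hb, show g * C.G.tor a * g⁻¹ * (g * C.G.xu s 1 * g⁻¹) * (g * C.G.tor a * g⁻¹)⁻¹ =
      g * (C.G.tor a * C.G.xu s 1 * (C.G.tor a)⁻¹) * g⁻¹ by group, C.G.tor_conj_xu, hc,
    ← mul_assoc] at h1
  have h2 := C.G.xu_injective _ h1
  simp only [mul_one] at h2
  rw [mul_comm (C.G.chi b _ : K)] at h2
  exact Units.ext (mul_left_cancel₀ c.ne_zero h2).symm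

theorem tor_inj : Function.Injective (C.G.tor (K := K)) := fun a b h => by
  rw [← mul_inv_eq_one]
  exact C.G.tor_eq_one (by rw [map_mul, map_inv, h, mul_inv_cancel])

theorem exists_nw_conj (w : List (Fin D.rank)) (a : Fin D.rank → Kˣ) :
    ∃ b, C.G.nw w * C.G.tor a = C.G.tor b * C.G.nw w := by
  induction w with
  | nil => exact ⟨a, by simp [Good.nw_nil]⟩
  | cons i w ih =>
    obtain ⟨b, hb⟩ := ih
    exact ⟨C.G.wc i b, by rw [C.G.nw_cons, mul_assoc, hb, ← mul_assoc, C.G.nU_tor, mul_assoc]⟩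

/-- a monomial element carries `tor a` to `tor b` as soon as the characters correspond -/
theorem conj_of_chi {n : GL D.Idx K} (hn : n ∈ D.monomialSubgroup K)
    {π : Equiv.Perm (Fin D.nroots)} (hπ : C.G.NPerm n π) {a b : Fin D.rank → Kˣ}
    (h : ∀ j, C.G.chi b (C.G.rho (π (C.G.simp' j))) = a j) :
    n * C.G.tor a = C.G.tor b * n := by
  obtain ⟨d, hd, w, rfl⟩ := C.G.monomial_decomp hn
  obtain ⟨d', rfl⟩ := C.G.exists_tor hd
  have hw : C.G.NPerm (C.G.tor d' * C.G.nw w) π := hπ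
  have hπW := mem_Wg_of_monomial C hn hπ
  -- the inverse image of `tor b`
  obtain ⟨a', ha'⟩ := exists_nw_conj C w a
  have e1 : C.G.tor d' * C.G.nw w * C.G.tor a = C.G.tor a' * (C.G.tor d' * C.G.nw w) := by
    rw [mul_assoc, ha', ← mul_assoc, ← map_mul, mul_comm d', map_mul, mul_assoc]
  have e2 : a' = b := by
    funext j
    -- write the fundamental root as an image
    obtain ⟨s, hs⟩ := π.surjective (C.G.simp' j)
    have h1 := chi_of_conj C hw e1 s
    have h2 : C.G.chi b (C.G.rho (π s)) = C.G.chi a (C.G.rho s) := by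
      rw [rho_perm C hπW, Good.chi, Good.chi]
      simp only [Matrix.vecMul, dotProduct, prod_zpow_sum]
      rw [Finset.prod_comm]
      refine Finset.prod_congr rfl fun k _ => ?_
      rw [← h k, chi_perm_simp, ← Finset.prod_zpow]
      exact Finset.prod_congr rfl fun i _ => by rw [← zpow_mul, mul_comm]
    rw [← h2, hs, C.G.rho_simp, C.G.chi_single, C.G.chi_single] at h1
    exact h1
  rw [e1, e2]

/-- the centraliser of a regular element in the positive unipotent subgroup is trivial -/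
theorem reg_posUnipotent {v : Fin D.rank → Kˣ} (hv : Reg C v) {u : GL D.Idx K}
    (hu : u ∈ D.posUnipotent K) (hc : C.G.tor v * u = u * C.G.tor v) : u = 1 := by
  rw [C.G.posUnipotent_eq] at hu
  obtain ⟨t, rfl⟩ := C.exists_uprod D.nroots 0 (Nat.zero_add _) u hu
  have e : C.G.tor v * C.uprod 0 t * (C.G.tor v)⁻¹ =
      C.uprod 0 fun r => (C.G.chi v (C.G.rho r) : K) * t r := by
    rw [← MulAut.conj_apply, Full.uprod, Full.uprod, map_list_prod, List.map_map]
    congr 1
    exact List.map_congr_left fun r _ => C.G.tor_conj_xu v r (t r)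
  rw [hc, mul_inv_cancel_right] at e
  have ht := C.uprod_inj D.nroots 0 (Nat.zero_add _) _ _ e
  have hz : C.uprod 0 t = C.uprod 0 fun _ => (0 : K) := C.uprod_congr fun r hr hp => by
    have h1 := ht r hr hp
    by_contra h0
    exact hv r (Units.ext (mul_right_cancel₀ h0 ((one_mul _).trans h1)).symm)
  rw [hz, Full.uprod]
  simp [C.G.xu_zero]

/-- an element conjugating one diagonal element to another has a monomial part that does the same -/
theorem twist {g : GL D.Idx K} (hg : g ∈ D.group K) {a b : Fin D.rank → Kˣ}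
    (ha : C.G.tor a ∈ D.diagonalSubgroup K) (hb : C.G.tor b ∈ D.diagonalSubgroup K)
    (h : g * C.G.tor a = C.G.tor b * g) :
    ∃ w ∈ D.posUnipotent K, ∃ n ∈ D.monomialSubgroup K, ∃ π, C.G.NPerm n π ∧
      ∃ u ∈ D.posUnipotent K, g = w * n * u ∧ n * C.G.tor a = C.G.tor b * n ∧
        C.G.tor b * w = w * C.G.tor b ∧ C.G.tor a * u = u * C.G.tor a := by
  obtain ⟨b', hb', n₀, hn₀, π, hπ, u, hu, rfl⟩ := C.refined_exists hg
  obtain ⟨w, hw, d, hd, rfl⟩ := C.G.mem_borel_iff.1 hb'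
  set n := d * n₀ with hn
  have hnm : n ∈ D.monomialSubgroup K := mul_mem (C.G.H_le_monomial hd) hn₀
  have hnπ : C.G.NPerm n π := by
    have := Good.NPerm.mul C.G (C.G.nPerm_H hd) hπ
    rwa [one_mul] at this
  have hna : n * C.G.tor a * n⁻¹ ∈ D.diagonalSubgroup K :=
    (Subgroup.mem_normalizer_iff.1 (C.G.monomial_le_normalizer hnm) _).1 ha
  have hu' := C.G.Uinv_congr_H (inv_mem ha) π hu
  rw [inv_inv] at hu'
  have e : (w * (n * C.G.tor a * n⁻¹)) * n * ((C.G.tor a)⁻¹ * u * C.G.tor a) =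
      (C.G.tor b * w) * n * u := by
    calc (w * (n * C.G.tor a * n⁻¹)) * n * ((C.G.tor a)⁻¹ * u * C.G.tor a)
        = w * d * n₀ * u * C.G.tor a := by rw [hn]; group
      _ = C.G.tor b * (w * d * n₀ * u) := h
      _ = (C.G.tor b * w) * n * u := by rw [hn]; group
  obtain ⟨e1, e2⟩ := C.refined_unique
    (mul_mem (Subgroup.mem_sup_left hw) (Subgroup.mem_sup_right hna))
    (mul_mem (Subgroup.mem_sup_right hb) (Subgroup.mem_sup_left hw)) hnπ hu' hu e
  have hbw : C.G.tor b * w * (C.G.tor b)⁻¹ ∈ D.posUnipotent K :=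
    (Subgroup.mem_normalizer_iff.1 (C.G.H_normalizes_U hb) w).1 hw
  obtain ⟨e3, e4⟩ := C.G.eq_one_of_U_H (mul_mem (inv_mem hbw) hw) (mul_mem hna (inv_mem hb)) (by
    calc (C.G.tor b * w * (C.G.tor b)⁻¹)⁻¹ * w * (n * C.G.tor a * n⁻¹ * (C.G.tor b)⁻¹)
        = C.G.tor b * w⁻¹ * (C.G.tor b)⁻¹ * (w * (n * C.G.tor a * n⁻¹)) * (C.G.tor b)⁻¹ := by group
      _ = 1 := by rw [e1]; group)
  refine ⟨w, hw, n, hnm, π, hnπ, u, C.G.Uinv_le π hu, by rw [hn]; group, ?_, ?_, ?_⟩
  · exact mul_inv_eq_iff_eq_mul.1 (mul_inv_eq_one.1 e4)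
  · rw [inv_mul_eq_one] at e3
    exact mul_inv_eq_iff_eq_mul.1 e3
  · conv_lhs => rw [← e2]
    group

/-- between regular elements only monomial elements conjugate -/
theorem twist_reg {g : GL D.Idx K} (hg : g ∈ D.group K) {a b : Fin D.rank → Kˣ}
    (ha : C.G.tor a ∈ D.diagonalSubgroup K) (hb : C.G.tor b ∈ D.diagonalSubgroup K)
    (hra : Reg C a) (hrb : Reg C b) (h : g * C.G.tor a = C.G.tor b * g) :
    g ∈ D.monomialSubgroup K ∧ ∃ π, C.G.NPerm g π := by
  obtain ⟨w, hw, n, hn, π, hπ, u, hu, rfl, -, e1, e2⟩ := twist C hg ha hb h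
  rw [reg_posUnipotent C hrb hw e1, reg_posUnipotent C hra hu e2, one_mul, mul_one]
  exact ⟨hn, π, hπ⟩

theorem nPerm_fmap {L : Type*} [Field L] (f : K →+* L) {n : GL D.Idx K}
    (hn : n ∈ D.monomialSubgroup K) {π : Equiv.Perm (Fin D.nroots)} (hπ : C.G.NPerm n π) :
    C.G.NPerm (fmap D f n) π := by
  obtain ⟨h, hh, w, rfl⟩ := C.G.monomial_decomp hn
  have h1 := Good.NPerm.mul C.G (C.G.nPerm_H hh) (C.G.nPerm_nw (K := K) w)
  rw [one_mul] at h1
  obtain rfl := Good.NPerm.unique C.G h1 hπ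
  have h2 := Good.NPerm.mul C.G (C.G.nPerm_H (C.G.fmap_mem_H f hh)) (C.G.nPerm_nw (K := L) w)
  rw [one_mul] at h2
  rwa [map_mul, C.G.fmap_nw]

end CfsgLib.Lie.CoxTorus
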