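import Mathlib.RingTheory.Polynomial.Cyclotomic.Roots
import Mathlib.RingTheory.Polynomial.Cyclotomic.Expand
import Mathlib.FieldTheory.Finite.Basic
import Mathlib.Tactic.Ring
import Mathlib.Tactic.LinearCombination

/-!
# The values of `Φ₃`, `Φ₈` and `Φ₃₀`, and their prime divisors
-/

set_option autoImplicit false

namespace CfsgLib.Lie.CoxTorus

open Polynomial

/-- the modulus of a primitive root is large -/
theorem primitive_of_dvd_eval {h r : ℕ} (hr : r.Prime) (hrh : ¬ r ∣ h) {q : ℕ}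
    (hd : (r : ℤ) ∣ (cyclotomic h ℤ).eval (q : ℤ)) :
    IsPrimitiveRoot (q : ZMod r) h ∧ h ∣ r - 1 := by
  haveI := Fact.mk hr
  haveI : NeZero (h : ZMod r) := ⟨fun e => hrh ((ZMod.natCast_eq_zero_iff _ _).1 e)⟩
  have h1 : IsRoot (cyclotomic h (ZMod r)) (q : ZMod r) := by
    rw [IsRoot, ← map_cyclotomic h (Int.castRingHom (ZMod r)), ← Int.cast_natCast, eval_intCast_map,
      eq_intCast, ZMod.intCast_zmod_eq_zero_iff_dvd]
    exact hd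
  have hprim := isRoot_cyclotomic_iff.1 h1
  refine ⟨hprim, ?_⟩
  rcases eq_or_ne h 0 with rfl | hh
  · exact absurd (dvd_zero r) hrh
  · have hne : (q : ZMod r) ≠ 0 := hprim.ne_zero hh
    exact hprim.dvd_of_pow_eq_one _ (ZMod.pow_card_sub_one_eq_one hne)

theorem eval_cyclotomic_three (x : ℤ) : (cyclotomic 3 ℤ).eval x = x ^ 2 + x + 1 := by
  simp [cyclotomic_three]

theorem eval_cyclotomic_eight (x : ℤ) : (cyclotomic 8 ℤ).eval x = x ^ 4 + 1 := by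
  haveI := Fact.mk Nat.prime_two
  rw [show (8 : ℕ) = 2 ^ (2 + 1) from rfl, cyclotomic_prime_pow_eq_geom_sum Nat.prime_two]
  simp [Finset.sum_range_succ, add_comm]

theorem cyclotomic_fifteen : cyclotomic 15 ℤ = X ^ 8 - X ^ 7 + X ^ 5 - X ^ 4 + X ^ 3 - X + 1 := by
  have h := cyclotomic_expand_eq_cyclotomic_mul (p := 3) (n := 5) Nat.prime_three (by decide) ℤ
  have h5 : cyclotomic 5 ℤ = X ^ 4 + X ^ 3 + X ^ 2 + X + 1 := by
    haveI : Fact (Nat.Prime 5) := ⟨by decide +kernel⟩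
    rw [cyclotomic_prime]
    simp [Finset.sum_range_succ]
    ring
  rw [h5] at h
  simp only [map_add, map_pow, expand_X, map_one] at h
  refine mul_right_cancel₀ (b := X ^ 4 + X ^ 3 + X ^ 2 + X + 1) ?_ (h.symm.trans (by ring))
  rw [← h5]
  exact cyclotomic_ne_zero _ _

theorem eval_cyclotomic_thirty (x : ℤ) :
    (cyclotomic 30 ℤ).eval x = x ^ 8 + x ^ 7 - x ^ 5 - x ^ 4 - x ^ 3 + x + 1 := by
  have h := cyclotomic_expand_eq_cyclotomic_mul (p := 2) (n := 15) Nat.prime_two (by decide) ℤ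
  rw [cyclotomic_fifteen] at h
  simp only [map_add, map_sub, map_pow, expand_X, map_one] at h
  have h30 : cyclotomic 30 ℤ = X ^ 8 + X ^ 7 - X ^ 5 - X ^ 4 - X ^ 3 + X + 1 := by
    refine mul_right_cancel₀ (b := X ^ 8 - X ^ 7 + X ^ 5 - X ^ 4 + X ^ 3 - X + 1) ?_
      (h.symm.trans (by ring))
    rw [← cyclotomic_fifteen]
    exact cyclotomic_ne_zero _ _
  simp [h30]

theorem nine_not_dvd (q : ℕ) : ¬ 9 ∣ q ^ 2 + q + 1 := by
  have key : ∀ x : ZMod 9, x ^ 2 + x + 1 ≠ 0 := by decide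
  intro hd
  have h1 := (ZMod.natCast_eq_zero_iff (q ^ 2 + q + 1) 9).2 hd
  push_cast at h1
  exact key _ h1

theorem four_not_dvd (q : ℕ) : ¬ 4 ∣ q ^ 4 + 1 := by
  have key : ∀ x : ZMod 4, x ^ 4 + 1 ≠ 0 := by decide
  intro hd
  have h1 := (ZMod.natCast_eq_zero_iff (q ^ 4 + 1) 4).2 hd
  push_cast at h1
  exact key _ h1

/-- the value of `Φ₃₀` -/
theorem value_thirty {q : ℕ} (hq : 2 ≤ q) :
    ((q ^ 8 + q ^ 7 - q ^ 5 - q ^ 4 - q ^ 3 + q + 1 : ℕ) : ℤ) =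
      (cyclotomic 30 ℤ).eval (q : ℤ) ∧ 1 < q ^ 8 + q ^ 7 - q ^ 5 - q ^ 4 - q ^ 3 + q + 1 := by
  have h1 : q ^ 5 ≤ q ^ 8 := Nat.pow_le_pow_right (by omega) (by norm_num)
  have h2 : q ^ 4 + q ^ 3 ≤ q ^ 7 := by
    have e1 : 2 * q ^ 4 ≤ q ^ 7 := by
      calc 2 * q ^ 4 ≤ q ^ 3 * q ^ 4 := by
            refine Nat.mul_le_mul_right _ (le_trans hq (Nat.le_self_pow (by norm_num) q))
        _ = q ^ 7 := by ring
    have e2 : q ^ 3 ≤ q ^ 4 := Nat.pow_le_pow_right (by omega) (by norm_num)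
    omega
  refine ⟨?_, by omega⟩
  rw [eval_cyclotomic_thirty]
  push_cast [show q ^ 5 ≤ q ^ 8 + q ^ 7 by omega, show q ^ 4 ≤ q ^ 8 + q ^ 7 - q ^ 5 by omega,
    show q ^ 3 ≤ q ^ 8 + q ^ 7 - q ^ 5 - q ^ 4 by omega]
  ring

theorem not_dvd_thirty {ℓ : ℕ} (hℓ : ℓ.Prime) (h30 : ℓ ∣ 30) (q : ℤ) :
    ¬ (ℓ : ℤ) ∣ (cyclotomic 30 ℤ).eval q := by
  rw [eval_cyclotomic_thirty, ← ZMod.intCast_zmod_eq_zero_iff_dvd]
  push_cast
  have h2 : ∀ x : ZMod 2, x ^ 8 + x ^ 7 - x ^ 5 - x ^ 4 - x ^ 3 + x + 1 ≠ 0 := by decide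
  have h3 : ∀ x : ZMod 3, x ^ 8 + x ^ 7 - x ^ 5 - x ^ 4 - x ^ 3 + x + 1 ≠ 0 := by decide
  have h5 : ∀ x : ZMod 5, x ^ 8 + x ^ 7 - x ^ 5 - x ^ 4 - x ^ 3 + x + 1 ≠ 0 := by decide
  have h235 : ℓ = 2 ∨ ℓ = 3 ∨ ℓ = 5 := by
    have : ℓ ∈ Nat.primeFactors 30 := Nat.mem_primeFactors.2 ⟨hℓ, h30, by norm_num⟩
    rw [show Nat.primeFactors 30 = {2, 3, 5} by decide +kernel] at this
    simpa using this
  rcases h235 with rfl | rfl | rfl
  exacts [h2 _, h3 _, h5 _]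

/-- a number with at most one factor `ℓ` and larger than `ℓ` has another prime divisor -/
theorem exists_prime_ne {n ℓ : ℕ} (hn : ℓ < n) (hℓ : ℓ.Prime) (hsq : ¬ ℓ ^ 2 ∣ n) :
    ∃ r, r.Prime ∧ r ∣ n ∧ ¬ r ∣ ℓ := by
  by_contra hall
  push Not at hall
  have hpow : ∀ r : ℕ, r.Prime → r ∣ n → r = ℓ := fun r hr hd =>
    (Nat.prime_dvd_prime_iff_eq hr hℓ).1 (hall r hr hd)
  have h1 := Nat.eq_prime_pow_of_unique_prime_dvd (by omega) (hpow _)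
  rcases Nat.lt_or_ge n.primeFactorsList.length 2 with h2 | h2
  · rw [h1] at hn
    have h3 : ℓ ^ n.primeFactorsList.length ≤ ℓ ^ 1 := Nat.pow_le_pow_right hℓ.pos (by omega)
    rw [pow_one] at h3
    omega
  · exact hsq (h1 ▸ pow_dvd_pow ℓ h2)

end CfsgLib.Lie.CoxTorus
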