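import Cfsg.Agent.Lib.Lie.Chev.CoxTorus.Main
import Cfsg.Agent.Lib.Lie.Chev.CoxTorus.Cyclo
import Cfsg.Agent.Lib.Lie.Chev.TorData
import Cfsg.Agent.Lib.Lie.Chev.PoinG2
import Cfsg.Agent.Lib.Lie.Chev.PoinF4
import Cfsg.Agent.Lib.Lie.Chev.PoinE8
import Cfsg.Agent.Lib.Lie.Chev.CommG2
import Cfsg.Agent.Lib.Lie.Chev.CommF4
import Cfsg.Agent.Lib.Lie.Chev.CommE8

/-!
# The data for the types G₂, F₄ and E₈
-/

set_option autoImplicit false
set_option maxRecDepth 100000

namespace CfsgLib.Lie.CoxTorus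

open Cfsg.Lie CfsgLib.Lie.Chev

/-- the verified structure of type G2 -/
noncomputable def cG2 : Full chevG2 := ⟨goodG2, fastG2, rowsOK chkRows_G2, chkComm_G2⟩

/-- the verified structure of type F4 -/
noncomputable def cF4 : Full chevF4 := ⟨goodF4, fastF4, rowsOK chkRows_F4, chkComm_F4⟩

/-- the verified structure of type E8 -/
noncomputable def cE8 : Full chevE8 := ⟨goodE8, fastE8, rowsOK chkRows_E8, chkComm_E8⟩

/-- a matrix from a list of rows -/
def matOfList {l : ℕ} (L : List (List ℤ)) : Matrix (Fin l) (Fin l) ℤ :=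
  Matrix.of fun i j => (L.getD i.val []).getD j.val 0

/-- a vector from a list -/
def vecOfList {l : ℕ} (L : List ℕ) : Fin l → ℕ := fun i => L.getD i.val 0

/-- a check for upper triangular matrices -/
def triB {l : ℕ} (U : Matrix (Fin l) (Fin l) ℤ) : Bool :=
  (List.finRange l).all fun i => (List.finRange l).all fun j => decide (i.val ≤ j.val) || U i j == 0

theorem tri_of_triB {l : ℕ} {U : Matrix (Fin l) (Fin l) ℤ} (h : triB U = true) (i j : Fin l)
    (hji : j < i) : U i j = 0 := by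
  simp only [triB, List.all_eq_true, List.mem_finRange, forall_true_left, Bool.or_eq_true,
    decide_eq_true_eq, beq_iff_eq] at h
  exact (h i j).resolve_left (not_le.2 hji)

def uG2 : Matrix (Fin chevG2.rank) (Fin chevG2.rank) ℤ := matOfList [[2, -3], [0, 1]]

def uF4 : Matrix (Fin chevF4.rank) (Fin chevF4.rank) ℤ :=
  matOfList [[2, -1, 0, 0], [0, 3, -4, 0], [0, 0, 2, -3], [0, 0, 0, 1]]

def uE8 : Matrix (Fin chevE8.rank) (Fin chevE8.rank) ℤ :=
  matOfList [[2, 0, -1, 0, 0, 0, 0, 0], [0, 2, 0, -1, 0, 0, 0, 0], [0, 0, 3, -2, 0, 0, 0, 0],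
    [0, 0, 0, 5, -6, 0, 0, 0], [0, 0, 0, 0, 4, -5, 0, 0], [0, 0, 0, 0, 0, 3, -4, 0],
    [0, 0, 0, 0, 0, 0, 2, -3], [0, 0, 0, 0, 0, 0, 0, 1]]

theorem uG2_tri : ∀ i j, j < i → uG2 i j = 0 := tri_of_triB (by decide +kernel)

theorem degG2 : HasDegrees cG2 (vecOfList [2, 6]) := fun q => by
  have e : (q - 1) ^ chevG2.rank = (q - 1) ^ 2 :=
    congrArg _ (show chevG2.rank = 2 from by decide +kernel)
  rw [e]
  refine (poinG2 _ q).trans ?_
  simp only [vecOfList, Fin.prod_univ_eq_prod_range (fun i => q ^ [2, 6].getD i 0 - 1)]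
  rw [show chevG2.rank = 2 from by decide +kernel]
  simp [Finset.prod_range_succ]

theorem uF4_tri : ∀ i j, j < i → uF4 i j = 0 := tri_of_triB (by decide +kernel)

theorem degF4 : HasDegrees cF4 (vecOfList [2, 6, 8, 12]) := fun q => by
  have e : (q - 1) ^ chevF4.rank = (q - 1) ^ 4 :=
    congrArg _ (show chevF4.rank = 4 from by decide +kernel)
  rw [e]
  refine (poinF4 _ q).trans ?_
  simp only [vecOfList, Fin.prod_univ_eq_prod_range (fun i => q ^ [2, 6, 8, 12].getD i 0 - 1)]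
  rw [show chevF4.rank = 4 from by decide +kernel]
  simp [Finset.prod_range_succ]

theorem uE8_tri : ∀ i j, j < i → uE8 i j = 0 := tri_of_triB (by decide +kernel)

theorem degE8 : HasDegrees cE8 (vecOfList [2, 8, 12, 14, 18, 20, 24, 30]) := fun q => by
  have e : (q - 1) ^ chevE8.rank = (q - 1) ^ 8 :=
    congrArg _ (show chevE8.rank = 8 from by decide +kernel)
  rw [e]
  refine (poinE8 _ q).trans ?_
  simp only [vecOfList,
    Fin.prod_univ_eq_prod_range (fun i => q ^ [2, 8, 12, 14, 18, 20, 24, 30].getD i 0 - 1)]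
  rw [show chevE8.rank = 8 from by decide +kernel]
  simp [Finset.prod_range_succ]

theorem bound_mono {l : ℕ} {B : ℕ} {P : ℤ} {r₀ r : ℕ} (h : (B : ℤ) ^ l < (r₀ : ℤ) ^ 2 * P)
    (hr : r₀ ≤ r) : (B : ℤ) ^ l < (r : ℤ) ^ 2 * P := by
  have h0 : 0 < P := pos_of_mul_pos_right (lt_of_le_of_lt (by positivity) h) (sq_nonneg _)
  exact h.trans_le (mul_le_mul_of_nonneg_right
    (pow_le_pow_left₀ (Int.natCast_nonneg _) (by exact_mod_cast hr) 2) h0.le)

variable {F : Type*} [Field F] [Fintype F]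

theorem coxG2 (hq : 3 ≤ Fintype.card F) :
    ∃ H : Subgroup ↥(chevG2.group F), IsCyclic ↥H ∧
      Nat.card ↥H = Fintype.card F ^ 2 + Fintype.card F + 1 ∧
      Subgroup.centralizer (H : Set ↥(chevG2.group F)) = H := by
  set q := Fintype.card F
  have hev : (Polynomial.cyclotomic 3 ℤ).eval (q : ℤ) = ((q ^ 2 + q + 1 : ℕ) : ℤ) := by
    rw [eval_cyclotomic_three]; norm_num
  obtain ⟨r, hr, hrd, hr3⟩ := exists_prime_ne (show 3 < q ^ 2 + q + 1 by nlinarith) Nat.prime_three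
    (nine_not_dvd q)
  obtain ⟨hprim, hdvd⟩ := primitive_of_dvd_eval hr hr3 (q := q)
    (by rw [hev]; exact Int.natCast_dvd_natCast.2 hrd)
  have hr7 : 7 ≤ r := by
    have h2 := hr.two_le
    by_contra hlt
    interval_cases r <;> first | (norm_num at hr; done) | omega
  have h := exists_cox_subgroup (F := F) cG2 kerG2_ok rfl degG2 (h := 3) (by norm_num)
    (by decide +kernel) ⟨⟨1, by decide +kernel⟩, by decide +kernel⟩ hr
    (fun i hd => by
      have hb : ∀ i : Fin chevG2.rank, 0 < vecOfList [2, 6] i ∧ vecOfList [2, 6] i < 7 := by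
        decide +kernel
      exact absurd (Nat.le_of_dvd (hb i).1 hd) (by have := (hb i).2; omega))
    uG2 uG2_tri (vecOfList [1, 3]) (B := 12) (by unfold qlen; decide +kernel)
    (bound_mono (r₀ := 7) (by decide +kernel) hr7) hprim (fun ℓ hℓ hℓ3 => by
      rw [(Nat.prime_dvd_prime_iff_eq hℓ Nat.prime_three).1 hℓ3, hev, Int.natAbs_natCast]
      exact nine_not_dvd q)
  rwa [hev, Int.natAbs_natCast] at h

theorem coxF4 :
    ∃ H : Subgroup ↥(chevF4.group F), IsCyclic ↥H ∧ Nat.card ↥H = Fintype.card F ^ 4 + 1 ∧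
      Subgroup.centralizer (H : Set ↥(chevF4.group F)) = H := by
  set q := Fintype.card F
  have hev : (Polynomial.cyclotomic 8 ℤ).eval (q : ℤ) = ((q ^ 4 + 1 : ℕ) : ℤ) := by
    rw [eval_cyclotomic_eight]; norm_num
  have h2q : 2 ≤ q := Fintype.one_lt_card
  obtain ⟨r, hr, hrd, hr2⟩ := exists_prime_ne
    (show 2 < q ^ 4 + 1 by have := Nat.le_self_pow (show 4 ≠ 0 by norm_num) q; omega) Nat.prime_two
    (four_not_dvd q)
  obtain ⟨hprim, hdvd⟩ := primitive_of_dvd_eval hr (h := 8)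
    (fun hd => hr2 (hr.dvd_of_dvd_pow (show r ∣ 2 ^ 3 from hd))) (q := q)
    (by rw [hev]; exact Int.natCast_dvd_natCast.2 hrd)
  have hr17 : 17 ≤ r := by
    have h2 := hr.two_le
    by_contra hlt
    interval_cases r <;> first | (norm_num at hr; done) | omega
  have h := exists_cox_subgroup (F := F) cF4 kerF4_ok rfl degF4 (h := 8) (by norm_num)
    (by decide +kernel) ⟨⟨2, by decide +kernel⟩, by decide +kernel⟩ hr
    (fun i hd => by
      have hb : ∀ i : Fin chevF4.rank, 0 < vecOfList [2, 6, 8, 12] i ∧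
          vecOfList [2, 6, 8, 12] i < 17 := by decide +kernel
      exact absurd (Nat.le_of_dvd (hb i).1 hd) (by have := (hb i).2; omega))
    uF4 uF4_tri (vecOfList [3, 1, 2, 6]) (B := 24) (by unfold qlen; decide +kernel)
    (bound_mono (r₀ := 17) (by decide +kernel) hr17) hprim (fun ℓ hℓ hℓ8 => by
      rw [(Nat.prime_dvd_prime_iff_eq hℓ Nat.prime_two).1 (hℓ.dvd_of_dvd_pow (show ℓ ∣ 2 ^ 3 from hℓ8)),
        hev, Int.natAbs_natCast]
      exact four_not_dvd q)
  rwa [hev, Int.natAbs_natCast] at h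

theorem coxE8 :
    ∃ H : Subgroup ↥(chevE8.group F), IsCyclic ↥H ∧
      Nat.card ↥H = Fintype.card F ^ 8 + Fintype.card F ^ 7 - Fintype.card F ^ 5 -
        Fintype.card F ^ 4 - Fintype.card F ^ 3 + Fintype.card F + 1 ∧
      Subgroup.centralizer (H : Set ↥(chevE8.group F)) = H := by
  set q := Fintype.card F
  obtain ⟨hev, hgt⟩ := value_thirty (q := q) Fintype.one_lt_card
  set n := q ^ 8 + q ^ 7 - q ^ 5 - q ^ 4 - q ^ 3 + q + 1
  have hr : n.minFac.Prime := Nat.minFac_prime (by omega)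
  set r := n.minFac
  have hrd : r ∣ n := Nat.minFac_dvd n
  have hr30 : ¬ r ∣ 30 := fun hd => not_dvd_thirty hr hd (q : ℤ)
    (hev ▸ Int.natCast_dvd_natCast.2 hrd)
  obtain ⟨hprim, hdvd⟩ := primitive_of_dvd_eval hr hr30 (q := q)
    (by rw [← hev]; exact Int.natCast_dvd_natCast.2 hrd)
  have hr31 : 31 ≤ r := by
    have h2 := hr.two_le
    by_contra hlt
    have := Nat.le_of_dvd (by omega) hdvd
    omega
  have h := exists_cox_subgroup (F := F) cE8 kerE8_ok rfl degE8 (h := 30) (by norm_num)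
    (by decide +kernel) ⟨⟨7, by decide +kernel⟩, by decide +kernel⟩ hr
    (fun i hd => by
      have hb : ∀ i : Fin chevE8.rank, 0 < vecOfList [2, 8, 12, 14, 18, 20, 24, 30] i ∧
          vecOfList [2, 8, 12, 14, 18, 20, 24, 30] i < 31 := by decide +kernel
      exact absurd (Nat.le_of_dvd (hb i).1 hd) (by have := (hb i).2; omega))
    uE8 uE8_tri (vecOfList [30, 30, 10, 2, 3, 5, 10, 30]) (B := 120)
    (by unfold qlen; decide +kernel)
    (bound_mono (r₀ := 31) (by decide +kernel) hr31) hprim (fun ℓ hℓ hℓ30 hd => by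
      refine not_dvd_thirty hℓ hℓ30 (q : ℤ) (Int.natCast_dvd.2 ?_)
      exact (dvd_pow_self ℓ two_ne_zero).trans hd)
  rwa [← hev, Int.natAbs_natCast] at h

end CfsgLib.Lie.CoxTorus
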