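import Mathlib.Analysis.Matrix.Spectrum
import Mathlib.Analysis.Matrix.PosDef
import Mathlib.Analysis.MeanInequalities
import Mathlib.LinearAlgebra.Matrix.Block
import Mathlib.Data.Real.StarOrdered

/-!
# A bound for the determinant of an integer matrix with short rows

The rows are measured by a positive form `a ↦ ∑ₖ Δₖ (U a)ₖ²` with `U` triangular.
-/

set_option autoImplicit false

namespace CfsgLib.Lie.CoxTorus

open Matrix

variable {l : ℕ}

/-- a positive semidefinite matrix with bounded diagonal has bounded determinant -/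
theorem det_le_pow_of_diag_le (M : Matrix (Fin l) (Fin l) ℝ) (hM : M.PosSemidef) {b : ℝ}
    (hb : ∀ i, M i i ≤ b) : M.det ≤ b ^ l := by
  rcases Nat.eq_zero_or_pos l with rfl | hl
  · simp
  have hlR : (0 : ℝ) < l := by exact_mod_cast hl
  set μ := hM.1.eigenvalues
  have hμ : ∀ i, 0 ≤ μ i := hM.eigenvalues_nonneg
  have hsum : ∑ i, μ i ≤ l * b := by
    have h1 : M.trace = ∑ i, μ i := by
      have h := hM.1.trace_eq_sum_eigenvalues
      simpa using h
    rw [← h1, Matrix.trace]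
    refine (Finset.sum_le_card_nsmul Finset.univ _ b fun i _ => hb i).trans (le_of_eq ?_)
    simp
  have hdet : M.det = ∏ i, μ i := by
    have h := hM.1.det_eq_prod_eigenvalues
    simpa using h
  have hgm := Real.geom_mean_le_arith_mean Finset.univ (fun _ : Fin l => (1 : ℝ)) μ
    (fun _ _ => zero_le_one) (by simpa using hlR) fun i _ => hμ i
  simp only [Finset.sum_const, Finset.card_univ, Fintype.card_fin, nsmul_eq_mul, mul_one,
    Real.rpow_one, one_mul] at hgm
  have h2 : (∏ i, μ i) ^ ((l : ℝ)⁻¹) ≤ b :=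
    hgm.trans ((div_le_iff₀ hlR).2 (hsum.trans (le_of_eq (mul_comm _ _))))
  have h0 : 0 ≤ ∏ i, μ i := Finset.prod_nonneg fun i _ => hμ i
  calc M.det = ((∏ i, μ i) ^ ((l : ℝ)⁻¹)) ^ l := by
        rw [hdet, Real.rpow_inv_natCast_pow h0 hl.ne']
    _ ≤ b ^ l := pow_le_pow_left₀ (Real.rpow_nonneg h0 _) h2 l

/-- the weighted length of `a` -/
def qlen (U : Matrix (Fin l) (Fin l) ℤ) (Δ : Fin l → ℕ) (a : Fin l → ℤ) : ℤ :=
  ∑ k, (Δ k : ℤ) * (∑ j, U k j * a j) ^ 2

theorem det_bound (U : Matrix (Fin l) (Fin l) ℤ) (hU : ∀ i j, j < i → U i j = 0) (Δ : Fin l → ℕ)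
    (A : Matrix (Fin l) (Fin l) ℤ) (B : ℕ) (hA : ∀ i, qlen U Δ (A i) ≤ B) :
    A.det ^ 2 * ((∏ k, U k k) ^ 2 * ∏ k, (Δ k : ℤ)) ≤ (B : ℤ) ^ l := by
  set X : Matrix (Fin l) (Fin l) ℝ := (A * Uᵀ).map (Int.cast : ℤ → ℝ) with hX
  set M := X * Matrix.diagonal (fun k => (Δ k : ℝ)) * Xᵀ with hMdef
  have hpsd : M.PosSemidef := by
    have h := (Matrix.PosSemidef.diagonal (d := fun k => (Δ k : ℝ))
      fun k => Nat.cast_nonneg _).mul_mul_conjTranspose_same X
    rwa [Matrix.conjTranspose_eq_transpose_of_trivial] at h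
  have hdiag : ∀ i, M i i ≤ (B : ℝ) := by
    intro i
    have e : M i i = ((qlen U Δ (A i) : ℤ) : ℝ) := by
      rw [hMdef, Matrix.mul_apply]
      simp only [Matrix.mul_diagonal, Matrix.transpose_apply, hX, Matrix.map_apply, qlen]
      simp only [Matrix.mul_apply, Matrix.transpose_apply]
      push_cast
      refine Finset.sum_congr rfl fun k _ => ?_
      simp only [mul_comm ((U k _ : ℤ) : ℝ)]
      ring
    rw [e]
    exact_mod_cast hA i
  have h1 := det_le_pow_of_diag_le M hpsd hdiag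
  have hUdet : U.det = ∏ k, U k k :=
    Matrix.det_of_isUpperTriangular fun i j hij => hU i j hij
  have hXdet : X.det = ((A.det * ∏ k, U k k : ℤ) : ℝ) := by
    rw [hX, ← hUdet, ← Matrix.det_transpose U, ← Matrix.det_mul]
    exact ((Int.castRingHom ℝ).map_det (A * Uᵀ)).symm
  rw [hMdef, Matrix.det_mul, Matrix.det_mul, Matrix.det_transpose, Matrix.det_diagonal, hXdet] at h1
  have h2 : ((A.det ^ 2 * ((∏ k, U k k) ^ 2 * ∏ k, (Δ k : ℤ)) : ℤ) : ℝ) ≤ (((B : ℤ) ^ l : ℤ) : ℝ) := by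
    push_cast at h1 ⊢
    linarith
  exact_mod_cast h2

end CfsgLib.Lie.CoxTorus
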