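import Mathlib.LinearAlgebra.FreeModule.Finite.CardQuotient
import Mathlib.LinearAlgebra.Eigenspace.Zero
import Mathlib.GroupTheory.SpecificGroups.Cyclic
import Mathlib.GroupTheory.Sylow
import Mathlib.FieldTheory.Finiteness
import Cfsg.Agent.Lib.Lie.Chev.CoxTorus.Lin

/-!
# Systems of equations in a cyclic group, and a criterion for cyclicity
-/

set_option autoImplicit false

namespace CfsgLib.Lie.CoxTorus

open Matrix Polynomial

variable {l : ℕ}

theorem prod_zpow_zpow {G : Type*} [CommGroup G] (γ : G) (R : Matrix (Fin l) (Fin l) ℤ)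
    (z : Fin l → ℤ) (j : Fin l) : ∏ k, (γ ^ z k) ^ R j k = γ ^ ((R *ᵥ z) j) := by
  simp only [Matrix.mulVec, dotProduct]
  induction (Finset.univ : Finset (Fin l)) using Finset.induction with
  | empty => simp
  | insert a s ha ih =>
    rw [Finset.prod_insert ha, Finset.sum_insert ha, zpow_add, ih, ← zpow_mul, mul_comm (z a)]

theorem prod_zpow_sub {G : Type*} [CommGroup G] (u : Fin l → G) (q : ℤ)
    (N : Matrix (Fin l) (Fin l) ℤ) (j : Fin l) :
    ∏ k, u k ^ (q • (1 : Matrix (Fin l) (Fin l) ℤ) - N) j k = 1 ↔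
      ∏ k, u k ^ N j k = u j ^ q := by
  have e : ∏ k, u k ^ (q • (1 : Matrix (Fin l) (Fin l) ℤ)) j k = u j ^ q := by
    rw [Finset.prod_eq_single j] <;> simp +contextual [Matrix.smul_apply, Matrix.one_apply, eq_comm]
  simp only [Matrix.sub_apply, zpow_sub, Finset.prod_mul_distrib, Finset.prod_inv_distrib, e,
    mul_inv_eq_one]
  exact eq_comm

/-- the number of solutions of a monomial system in a cyclic group -/
theorem card_system {G : Type*} [CommGroup G] [Finite G] [IsCyclic G]
    (R R' : Matrix (Fin l) (Fin l) ℤ) (hRR' : R * R' = (Nat.card G : ℤ) • 1) (hdet : R.det ≠ 0) :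
    Nat.card {u : Fin l → G // ∀ j, ∏ k, u k ^ R j k = 1} = R.det.natAbs := by
  classical
  obtain ⟨γ, hγ⟩ := IsCyclic.exists_generator (α := G)
  set m : ℤ := (Nat.card G : ℤ) with hm
  have hord : (orderOf γ : ℤ) = m := by rw [hm, orderOf_eq_card_of_forall_mem_zpowers hγ]
  have hinj : Function.Injective R.mulVec := by
    refine fun a b hab => ?_
    by_contra hne
    exact hdet (Matrix.exists_mulVec_eq_zero_iff.1 ⟨a - b, sub_ne_zero.2 hne, by
      rw [Matrix.mulVec_sub]; exact sub_eq_zero.2 hab⟩)
  let Φ : (Fin l → ℤ) →+ Additive (Fin l → G) :=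
    AddMonoidHom.mk' (fun w => Additive.ofMul fun j => γ ^ ((R' *ᵥ w) j)) fun a b => by
      rw [← ofMul_mul]
      congr 1
      funext j
      rw [Pi.mul_apply, Matrix.mulVec_add, Pi.add_apply, zpow_add]
  have hker : Φ.ker = (LinearMap.range R.mulVecLin).toAddSubgroup := by
    ext w
    simp only [AddMonoidHom.mem_ker, Submodule.mem_toAddSubgroup, LinearMap.mem_range,
      Matrix.mulVecLin_apply]
    constructor
    · intro hw
      have hdiv : ∀ j, m ∣ (R' *ᵥ w) j := fun j => by
        rw [← hord]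
        exact orderOf_dvd_iff_zpow_eq_one.2 (congrFun (congrArg Additive.toMul hw) j)
      choose y hy using hdiv
      have h1 : R *ᵥ (R' *ᵥ w) = m • w := by rw [mulVec_mulVec, hRR', smul_mulVec, one_mulVec]
      rw [show R' *ᵥ w = m • y from funext fun j => by rw [hy j]; rfl, mulVec_smul] at h1
      exact ⟨y, smul_right_injective (Fin l → ℤ) (by simp [hm, Nat.card_pos.ne']) h1⟩
    · rintro ⟨y, rfl⟩
      have h1 : R' *ᵥ (R *ᵥ y) = m • y := hinj (by
        show R *ᵥ (R' *ᵥ (R *ᵥ y)) = R *ᵥ (m • y)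
        rw [mulVec_mulVec, hRR', smul_mulVec, one_mulVec, mulVec_smul])
      refine congrArg Additive.ofMul (funext fun j => ?_)
      rw [Pi.one_apply, h1, Pi.smul_apply, smul_eq_mul, zpow_mul, ← hord, zpow_natCast,
        pow_orderOf_eq_one, one_zpow]
  have hrange : ∀ u : Fin l → G, (∀ j, ∏ k, u k ^ R j k = 1) ↔ Additive.ofMul u ∈ Φ.range := by
    intro u
    constructor
    · intro hu
      choose z hz using fun k => Subgroup.mem_zpowers_iff.1 (hγ (u k))
      obtain rfl : u = fun k => γ ^ z k := funext fun k => (hz k).symm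
      have hdiv : ∀ j, m ∣ (R *ᵥ z) j := fun j => by
        rw [← hord]
        exact orderOf_dvd_iff_zpow_eq_one.2 ((prod_zpow_zpow γ R z j).symm.trans (hu j))
      choose w hw using hdiv
      refine ⟨w, congrArg Additive.ofMul (funext fun j => ?_)⟩
      rw [hinj (show R *ᵥ (R' *ᵥ w) = R *ᵥ z by
        rw [mulVec_mulVec, hRR', smul_mulVec, one_mulVec]; exact funext fun j => (hw j).symm)]
    · rintro ⟨w, hw⟩ j
      obtain rfl : (fun k => γ ^ ((R' *ᵥ w) k)) = u := hw
      rw [prod_zpow_zpow, mulVec_mulVec, hRR', smul_mulVec, one_mulVec, Pi.smul_apply, smul_eq_mul,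
        zpow_mul, ← hord, zpow_natCast, pow_orderOf_eq_one, one_zpow]
  rw [Nat.card_congr ((Additive.ofMul).subtypeEquiv (q := fun x => x ∈ Φ.range) hrange),
    ← AddSubgroup.index_ker, hker]
  have hlin : Function.Injective R.mulVecLin := hinj
  have h2 := Submodule.natAbs_det_equiv (LinearMap.range R.mulVecLin)
    (LinearEquiv.ofInjective R.mulVecLin hlin)
  erw [show ((LinearMap.range R.mulVecLin).subtype ∘ₗ AddMonoidHom.toIntLinearMap
      ((LinearEquiv.ofInjective R.mulVecLin hlin) :
        (Fin l → ℤ) →+ ↥(LinearMap.range R.mulVecLin))) =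
      Matrix.toLin' R from LinearMap.ext fun _ => rfl, LinearMap.det_toLin'] at h2
  rw [h2]
  rfl

/-- the eigenspace modulo a prime not dividing the index of the cyclotomic polynomial is a line -/
theorem card_eigen_le {h : ℕ} (N : Matrix (Fin l) (Fin l) ℤ) (hN : N.charpoly = cyclotomic h ℤ)
    (ℓ : ℕ) [Fact ℓ.Prime] (hℓ : ¬ ℓ ∣ h) (μ : ZMod ℓ) :
    Nat.card {z : Fin l → ZMod ℓ // red (ZMod ℓ) N *ᵥ z = μ • z} ≤ ℓ := by
  classical
  haveI : NeZero (h : ZMod ℓ) := ⟨fun e => hℓ ((ZMod.natCast_eq_zero_iff _ _).1 e)⟩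
  set f := Matrix.toLin' (red (ZMod ℓ) N)
  have e : Nat.card {z : Fin l → ZMod ℓ // red (ZMod ℓ) N *ᵥ z = μ • z} =
      Nat.card (Module.End.eigenspace f μ) :=
    Nat.card_congr (Equiv.subtypeEquivRight fun z => by
      rw [Module.End.mem_eigenspace_iff, Matrix.toLin'_apply])
  have hrm : f.charpoly.rootMultiplicity μ ≤ 1 := by
    rw [Matrix.charpoly_toLin', show red (ZMod ℓ) N = N.map (Int.castRingHom (ZMod ℓ)) from rfl,
      Matrix.charpoly_map, hN, map_cyclotomic]
    exact Polynomial.rootMultiplicity_le_one_of_separable (separable_cyclotomic h (ZMod ℓ)) μ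
  rw [e, Module.natCard_eq_pow_finrank (K := ZMod ℓ), Nat.card_zmod]
  refine (Nat.pow_le_pow_right (Fact.out : ℓ.Prime).pos ((LinearMap.finrank_eigenspace_le f μ).trans
    hrm)).trans (le_of_eq (pow_one ℓ))

/-- a finite abelian group with at most `p` solutions of `a ^ p = 1` for all primes `p` is cyclic -/
theorem isCyclic_of_prime_torsion {G : Type*} [Group G] [Finite G] (hcomm : ∀ a b : G, a * b = b * a)
    (hp : ∀ p : ℕ, p.Prime → Nat.card {a : G // a ^ p = 1} ≤ p) : IsCyclic G := by
  classical
  letI : CommGroup G := { (inferInstance : Group G) with mul_comm := hcomm }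
  haveI := Fintype.ofFinite G
  have key : ∀ n : ℕ, 0 < n → Nat.card {a : G // a ^ n = 1} ≤ n := by
    intro n
    induction n using Nat.strong_induction_on with
    | _ n ih =>
      intro hn
      by_cases h1 : n = 1
      · subst h1
        haveI : Subsingleton {a : G // a ^ 1 = 1} :=
          ⟨fun a b => Subtype.ext (((pow_one _).symm.trans a.2).trans ((pow_one _).symm.trans b.2).symm)⟩
        exact Finite.card_le_one_iff_subsingleton.2 inferInstance
      · obtain ⟨p, hpp, ⟨m, rfl⟩⟩ : ∃ p, p.Prime ∧ p ∣ n :=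
          ⟨n.minFac, Nat.minFac_prime h1, Nat.minFac_dvd n⟩
        have hm : 0 < m := Nat.pos_of_mul_pos_left hn
        set K := (powMonoidHom (p * m) : G →* G).ker
        set f : ↥K →* G := (powMonoidHom p).comp K.subtype
        have hr : Nat.card f.range ≤ m := by
          refine le_trans ?_ (ih m (lt_mul_left hm hpp.one_lt) hm)
          refine Nat.card_le_card_of_injective (β := {a : G // a ^ m = 1})
            (fun x => ⟨x.1, ?_⟩) fun a b hab =>
              Subtype.ext (congrArg (Subtype.val : {a : G // a ^ m = 1} → G) hab)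
          obtain ⟨a, ha⟩ := x.2
          rw [← ha]
          show ((a : G) ^ p) ^ m = 1
          rw [← pow_mul]
          exact a.2
        have hk : Nat.card f.ker ≤ p := by
          refine le_trans ?_ (hp p hpp)
          exact Nat.card_le_card_of_injective (β := {a : G // a ^ p = 1})
            (fun x => ⟨(x.1 : G), x.2⟩) fun a b hab =>
              Subtype.ext (Subtype.ext (congrArg (Subtype.val : {a : G // a ^ p = 1} → G) hab))
        calc Nat.card {a : G // a ^ (p * m) = 1} = Nat.card ↥K := rfl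
          _ = Nat.card f.range * Nat.card f.ker := by
            rw [← Subgroup.index_ker f, mul_comm, Subgroup.card_mul_index]
          _ ≤ m * p := Nat.mul_le_mul hr hk
          _ = p * m := mul_comm _ _
  refine isCyclic_of_card_pow_eq_one_le fun n hn => ?_
  have := key n hn
  rwa [Nat.card_eq_fintype_card, Fintype.card_subtype] at this

end CfsgLib.Lie.CoxTorus
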