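import Mathlib.FieldTheory.Finite.Extension
import Mathlib.RingTheory.RootsOfUnity.PrimitiveRoots
import Cfsg.Agent.Lib.Lie.Chev.CoxTorus.WMat
import Cfsg.Agent.Lib.Lie.Chev.CoxTorus.Setting
import Cfsg.Agent.Lib.Lie.Chev.CoxTorus.System
import Cfsg.Agent.Lib.Lie.Chev.CoxTorus.Bound

/-!
# Maximal tori of Coxeter type

For a number `h` with `φ(h)` the rank, and a prime `r` for which `q` has order `h` modulo `r`, the
centraliser of an element of order `r` is cyclic of order `Φ_h(q)` and is its own centraliser.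
-/

set_option autoImplicit false

namespace CfsgLib.Lie.CoxTorus

open Cfsg.Lie CfsgLib.Lie.Chev
open scoped MatrixGroups Matrix

/-- a monomial system on powers of an element of order `m`, read modulo `m` -/
theorem system_iff {G : Type*} [CommGroup G] {γ : G} {m l : ℕ} (hγ : IsPrimitiveRoot γ m)
    (M : Matrix (Fin l) (Fin l) ℤ) (z : Fin l → ℤ) (μ : ℤ) :
    (∀ j, ∏ k, (γ ^ z k) ^ M j k = (γ ^ z j) ^ μ) ↔
      red (ZMod m) M *ᵥ (fun k => (z k : ZMod m)) = (μ : ZMod m) • fun k => (z k : ZMod m) := by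
  have e : ∀ j, (red (ZMod m) M *ᵥ fun k => (z k : ZMod m)) j = (((M *ᵥ z) j : ℤ) : ZMod m) := by
    intro j
    simp [Matrix.mulVec, dotProduct, red_apply]
  rw [funext_iff]
  refine forall_congr' fun j => ?_
  rw [e, Pi.smul_apply, smul_eq_mul, ← Int.cast_mul, ZMod.intCast_eq_intCast_iff_dvd_sub,
    prod_zpow_zpow, ← zpow_mul, eq_comm, ← mul_inv_eq_one, ← zpow_sub,
    hγ.zpow_eq_one_iff_dvd, mul_comm (z j) μ]

variable {D : ChevalleyDatum} (C : Full D)

theorem chi_pow {K : Type*} [Field K] (v : Fin D.rank → Kˣ) {γ : Kˣ} {z : Fin D.rank → ℤ}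
    (hz : ∀ k, v k = γ ^ z k) (a : Fin D.rank → ℤ) : C.G.chi v a = γ ^ (a ⬝ᵥ z) := by
  simp only [Good.chi, dotProduct, hz]
  induction (Finset.univ : Finset (Fin D.rank)) using Finset.induction with
  | empty => simp
  | insert i s hi ih =>
    rw [Finset.prod_insert hi, Finset.sum_insert hi, zpow_add, ih, ← zpow_mul, mul_comm (z i)]

/-- regularity of an eigenvector of a Coxeter element -/
theorem regular_of_eigen {K : Type*} [Field K] {h r B : ℕ} [Fact r.Prime] (hh : 0 < h)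
    (U : Matrix (Fin D.rank) (Fin D.rank) ℤ) (hU : ∀ i j, j < i → U i j = 0) (Δ : Fin D.rank → ℕ)
    (hroot : ∀ s, qlen U Δ (C.G.rho s) ≤ B)
    (hbound : (B : ℤ) ^ D.rank < (r : ℤ) ^ 2 * ((∏ k, U k k) ^ 2 * ∏ k, (Δ k : ℤ)))
    {π : Equiv.Perm (Fin D.nroots)} (hπ : π ∈ C.G.Wg)
    (hN : (wm C π).charpoly = Polynomial.cyclotomic h ℤ) {γ : Kˣ} (hγ : IsPrimitiveRoot γ r)
    {v : Fin D.rank → Kˣ} {z : Fin D.rank → ℤ} (hz : ∀ k, v k = γ ^ z k)
    (he : (fun k => (z k : ZMod r)) ≠ 0) {μ : ZMod r}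
    (hev : red (ZMod r) (wm C π) *ᵥ (fun k => (z k : ZMod r)) = μ • fun k => (z k : ZMod r)) :
    Reg C v := by
  intro s hs
  set e := fun k => (z k : ZMod r) with hedef
  set A := orbitMat (wm C π) (C.G.rho s)
  have hA : ∀ i, A i = C.G.rho ((π ^ (i : ℕ)) s) := fun i => by
    rw [rho_perm C (pow_mem hπ _), wm_pow C hπ]
    rfl
  rw [chi_pow C v hz, hγ.zpow_eq_one_iff_dvd] at hs
  have h0 : (fun k => (C.G.rho s k : ZMod r)) ⬝ᵥ e = 0 := by
    rw [← (ZMod.intCast_zmod_eq_zero_iff_dvd _ _).2 hs]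
    simp [dotProduct, hedef]
  have hAe : red (ZMod r) A *ᵥ e = 0 := by
    funext i
    have h1 : (fun k => (C.G.rho s k : ZMod r)) ᵥ* (red (ZMod r) (wm C π) ^ (i : ℕ)) =
        red (ZMod r) A i := by
      funext k
      rw [← map_pow]
      simp [A, orbitMat, Matrix.vecMul, dotProduct, red_apply]
    rw [Matrix.mulVec, ← h1, ← Matrix.dotProduct_mulVec, pow_mulVec_eigen hev, dotProduct_smul, h0,
      smul_zero, Pi.zero_apply]
  have hdet : A.det ≠ 0 := orbit_det_ne_zero hh _ hN (C.G.rho_ne_zero s)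
  have hdvd : (r : ℤ) ∣ A.det := by
    rw [← ZMod.intCast_zmod_eq_zero_iff_dvd]
    have h2 : (red (ZMod r) A).det = 0 := Matrix.exists_mulVec_eq_zero_iff.1 ⟨e, he, hAe⟩
    rw [← h2]
    exact (Int.castRingHom (ZMod r)).map_det A
  have hb := det_bound U hU Δ A B fun i => by rw [hA]; exact hroot _
  have hc : (r : ℤ) ^ 2 ≤ A.det ^ 2 := by
    rw [← sq_abs A.det]
    exact pow_le_pow_left₀ (by positivity)
      (Int.le_of_dvd (abs_pos.2 hdet) ((dvd_abs _ _).2 hdvd)) 2
  have hnn : 0 ≤ (∏ k, U k k) ^ 2 * ∏ k, (Δ k : ℤ) :=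
    mul_nonneg (sq_nonneg _) (Finset.prod_nonneg fun k _ => Nat.cast_nonneg _)
  exact absurd (lt_of_lt_of_le hbound ((mul_le_mul_of_nonneg_right hc hnn).trans hb)) (lt_irrefl _)

section

variable {F : Type*} [Field F] [Fintype F]

theorem exists_prime_order {T : KerData D.rank} (hT : T.Ok (cmat D)) (hk : T.k = 0)
    {dg : Fin D.rank → ℕ} (hdg : HasDegrees C dg) {h r : ℕ} (hr : r.Prime) (hh : 1 < h)
    (hdeg : ∃ i, h ∣ dg i) (hprim : IsPrimitiveRoot ((Fintype.card F : ℕ) : ZMod r) h) :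
    ∃ x : ↥(D.group F), orderOf x = r := by
  classical
  haveI := Fact.mk hr
  haveI : Finite (GL D.Idx F) := inferInstance
  refine exists_prime_orderOf_dvd_card' r ?_
  rw [← ZMod.natCast_eq_zero_iff]
  have h1 := congrArg (Int.cast : ℤ → ZMod r) (card_group_eq C hT hk (K := F) hdg)
  push_cast at h1
  rw [h1]
  obtain ⟨i, hi⟩ := hdeg
  have h2 : (∑ j ∈ Finset.range (dg i), ((Fintype.card F : ℕ) : ZMod r) ^ j) = 0 := by
    have h3 := geom_sum_mul ((Fintype.card F : ℕ) : ZMod r) (dg i)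
    rw [(hprim.pow_eq_one_iff_dvd _).2 hi, sub_self, mul_eq_zero] at h3
    exact h3.resolve_right (sub_ne_zero.2 (hprim.ne_one hh))
  rw [Finset.prod_eq_zero (Finset.mem_univ i) h2]
  ring

/-- the centraliser of an element of order `r` -/
theorem cox_centralizer {T : KerData D.rank} (hT : T.Ok (cmat D)) (hk : T.k = 0)
    {dg : Fin D.rank → ℕ} (hdg : HasDegrees C dg) {h : ℕ} (hh : 1 < h)
    (htot : Nat.totient h = D.rank) {r : ℕ} (hr : r.Prime)
    (hrdg : ∀ i, ¬ r ∣ dg i) (U : Matrix (Fin D.rank) (Fin D.rank) ℤ)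
    (hU : ∀ i j, j < i → U i j = 0) (Δ : Fin D.rank → ℕ) {B : ℕ}
    (hroot : ∀ s, qlen U Δ (C.G.rho s) ≤ B)
    (hbound : (B : ℤ) ^ D.rank < (r : ℤ) ^ 2 * ((∏ k, U k k) ^ 2 * ∏ k, (Δ k : ℤ)))
    (hprim : IsPrimitiveRoot ((Fintype.card F : ℕ) : ZMod r) h)
    (hsep : ∀ ℓ : ℕ, ℓ.Prime → ℓ ∣ h →
      ¬ ℓ ^ 2 ∣ ((Polynomial.cyclotomic h ℤ).eval (Fintype.card F : ℤ)).natAbs)
    (x₀ : ↥(D.group F)) (hx₀ : orderOf x₀ = r) :
    IsCyclic ↥(Subgroup.centralizer {x₀}) ∧
      Nat.card ↥(Subgroup.centralizer {x₀}) =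
        ((Polynomial.cyclotomic h ℤ).eval (Fintype.card F : ℤ)).natAbs ∧
      ∀ (g : ↥(D.group F)) (j : ℕ), g⁻¹ * x₀ * g = x₀ ^ j → ∀ i : ℕ,
        Nat.totient (orderOf (((Fintype.card F : ℕ) : ZMod r) ^ i * (j : ZMod r))) ≤ D.rank := by
  classical
  haveI := Fact.mk hr
  set q := Fintype.card F with hq
  -- the extension of degree `h` and its Frobenius map
  obtain ⟨p, hp⟩ := CharP.exists F
  haveI : Fact p.Prime := ⟨CharP.char_is_prime F p⟩
  haveI : NeZero h := ⟨by omega⟩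
  let K := FiniteField.Extension F p h
  letI : Fintype K := Fintype.ofFinite K
  have hcardK : Fintype.card K = q ^ h := by
    rw [Fintype.card_eq_nat_card, FiniteField.natCard_extension, hq, Fintype.card_eq_nat_card]
  have hcardU : Nat.card Kˣ = q ^ h - 1 := by
    rw [Nat.card_units, ← Fintype.card_eq_nat_card, hcardK]
  have hQ : (Fintype.card K : ZMod r) = 1 := by rw [hcardK, Nat.cast_pow, hprim.pow_eq_one]
  let ι : F →+* K := algebraMap F K
  let σ : K →+* K := (FiniteField.Extension.frob F p h).toRingEquiv.toRingHom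
  have hσ : ∀ a : K, σ a = a ^ q := fun a => by
    rw [hq, Fintype.card_eq_nat_card]
    exact FiniteField.Extension.frob_apply F p h
  have hσι : σ.comp ι = ι := RingHom.ext fun a => (FiniteField.Extension.frob F p h).commutes a
  have hfix : ∀ a, σ a = a → ∃ b, ι b = a := fun a ha => by
    haveI : IsGalois F K := inferInstance
    show a ∈ Set.range (algebraMap F K)
    rw [IsGalois.mem_range_algebraMap_iff_fixed]
    intro g
    obtain ⟨i, -, rfl⟩ := FiniteField.Extension.exists_frob_pow_eq F p h g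
    induction i with
    | zero => rfl
    | succ i ih => rw [pow_succ', AlgEquiv.mul_apply, ih]; exact ha
  have hσtor : ∀ u : Fin D.rank → Kˣ, fmap D σ (C.G.tor u) = C.G.tor (fun i => u i ^ q) := fun u => by
    rw [C.G.fmap_tor]
    exact congrArg _ (funext fun i => Units.ext (by simpa using hσ (u i : K)))
  have htmem := fun u : Fin D.rank → Kˣ => tor_mem C hT hk u
  -- an element of order `r`, conjugate into the diagonal subgroup
  set x := fmap D ι (x₀ : GL D.Idx F) with hx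
  have hxr : x ^ r = 1 := by
    rw [hx, ← map_pow, ← Subgroup.coe_pow, ← hx₀, pow_orderOf_eq_one, Subgroup.coe_one, map_one]
  obtain ⟨c, hc, v, hxc⟩ :=
    exists_conj_diag C hT hk hdg hr hrdg hQ (C.G.fmap_mem_group ι x₀.2) hxr
  have hcv : C.G.tor v = c⁻¹ * x * c := by rw [mul_assoc, hxc, inv_mul_cancel_left]
  have hvr : v ^ r = 1 := by
    refine C.G.tor_eq_one ?_
    rw [map_pow, hcv, show c⁻¹ * x * c = MulAut.conj c⁻¹ x by simp, ← map_pow, hxr, map_one]
  have hv1 : v ≠ 1 := by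
    rintro rfl
    rw [map_one, eq_comm, mul_assoc, inv_mul_eq_one] at hcv
    have h1 : x = 1 := by simpa using hcv.symm
    rw [hx, map_eq_one_iff _ (fmap_injective ι), OneMemClass.coe_eq_one] at h1
    rw [h1, orderOf_one] at hx₀
    exact hr.one_lt.ne hx₀
  -- exponents
  obtain ⟨γ, hγ'⟩ : ∃ γ : Kˣ, orderOf γ = r := by
    refine exists_prime_orderOf_dvd_card' r ?_
    rw [hcardU, ← ZMod.natCast_eq_zero_iff, Nat.cast_sub (Nat.one_le_pow _ _ Fintype.card_pos),
      Nat.cast_pow, hprim.pow_eq_one, Nat.cast_one, sub_self]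
  have hγ : IsPrimitiveRoot γ r := hγ' ▸ IsPrimitiveRoot.orderOf γ
  have hzex : ∀ k, ∃ i : ℕ, γ ^ i = v k := fun k => by
    obtain ⟨i, -, hi⟩ := (IsPrimitiveRoot.coe_units_iff.2 hγ).eq_pow_of_pow_eq_one
      (show (v k : K) ^ r = 1 by rw [← Units.val_pow_eq_pow_val, ← Pi.pow_apply, hvr]; rfl)
    exact ⟨i, Units.ext (by rw [Units.val_pow_eq_pow_val, hi])⟩
  choose i hi using hzex
  set z : Fin D.rank → ℤ := fun k => (i k : ℤ) with hzdef
  have hz : ∀ k, v k = γ ^ z k := fun k => by rw [hzdef, zpow_natCast, hi]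
  set e := fun k => (z k : ZMod r)
  have he : e ≠ 0 := fun h0 => hv1 (funext fun k => by
    rw [hz, Pi.one_apply, hγ.zpow_eq_one_iff_dvd]
    exact (ZMod.intCast_zmod_eq_zero_iff_dvd _ _).1 (congrFun h0 k))
  -- the twisting element
  set m := c⁻¹ * fmap D σ c with hm
  have hmG : m ∈ D.group K := mul_mem (inv_mem hc) (C.G.fmap_mem_group σ hc)
  have hσx : ∀ g : GL D.Idx F, fmap D σ (fmap D ι g) = fmap D ι g := fun g => by
    rw [fmap_fmap, hσι]
  have hσconj : ∀ y, fmap D σ y = y →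
      fmap D σ (c⁻¹ * y * c) = m⁻¹ * (c⁻¹ * y * c) * m := fun y hy => by
    rw [map_mul, map_mul, map_inv, hy, hm]
    group
  have hmv : m * C.G.tor (fun k => v k ^ q) = C.G.tor v * m := by
    rw [← hσtor, hcv, hσconj x (hσx _)]
    group
  obtain ⟨w, hw, n, hn, π, hπ, u, hu, hmn, hnv, hbw, hau⟩ := twist C hmG (htmem _) (htmem v) hmv
  have hπW := mem_Wg_of_monomial C hn hπ
  set N := wm C π with hNdef
  have hvN : ∀ j, ∏ k, v k ^ N j k = v j ^ (q : ℤ) := fun j => by
    rw [← chi_perm_simp C v π j, chi_of_conj C hπ hnv, C.G.rho_simp, C.G.chi_single, zpow_natCast]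
  have hev : red (ZMod r) N *ᵥ e = (q : ZMod r) • e := by
    have := (system_iff hγ N z (q : ℤ)).1 fun j => by simpa only [← hz] using hvN j
    simpa using this
  have hW : ¬ r ∣ Fintype.card C.G.Wg := cast_dvd_prime C hr hrdg hdg
  have hNpow : N ^ Fintype.card C.G.Wg = 1 := wm_pow_card C hπW
  have hN : N.charpoly = Polynomial.cyclotomic h ℤ :=
    charpoly_eq_cyclotomic htot N hNpow hW e he hprim hev
  have hreg : Reg C v := regular_of_eigen C (by omega) U hU Δ hroot hbound hπW hN hγ hz he hev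
  have hregq : Reg C (fun k => v k ^ q) := fun s => by
    rw [← chi_of_conj C hπ hnv]
    exact hreg _
  rw [reg_posUnipotent C hreg hw hbw, reg_posUnipotent C hregq hu hau, one_mul, mul_one] at hmn
  rw [← hmn] at hn hπ
  -- the subgroup
  let ψ : ↥(D.group F) →* GL D.Idx K :=
    (MulAut.conj c⁻¹).toMonoidHom.comp ((fmap D ι).comp (D.group F).subtype)
  have hψ : ∀ g, ψ g = c⁻¹ * fmap D ι (g : GL D.Idx F) * c := fun g => by simp [ψ]
  have hψinj : Function.Injective ψ := fun a b hab => by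
    rw [hψ, hψ, mul_left_inj, mul_right_inj] at hab
    exact Subtype.ext (fmap_injective ι hab)
  have hψG : ∀ g, ψ g ∈ D.group K := fun g => by
    rw [hψ]; exact mul_mem (mul_mem (inv_mem hc) (C.G.fmap_mem_group ι g.2)) hc
  have hψσ : ∀ g, fmap D σ (ψ g) = m⁻¹ * ψ g * m := fun g => by
    rw [hψ]; exact hσconj _ (hσx _)
  have hψx : ψ x₀ = C.G.tor v := by rw [hψ, hcv]
  set S := (D.diagonalSubgroup K).comap ψ
  have hScomm : ∀ a ∈ S, ∀ b ∈ S, a * b = b * a := fun a ha b hb =>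
    hψinj (by rw [map_mul, map_mul, C.G.diagonal_comm ha hb])
  have hxS : x₀ ∈ S := by show ψ x₀ ∈ D.diagonalSubgroup K; rw [hψx]; exact htmem v
  have hcent : ∀ g, g * x₀ = x₀ * g → g ∈ S := by
    intro g hg
    have h1 : ψ g * C.G.tor v = C.G.tor v * ψ g := by rw [← hψx, ← map_mul, hg, map_mul]
    obtain ⟨hgm, π', hπ'⟩ := twist_reg C (hψG g) (htmem v) (htmem v) hreg hreg h1
    have hπW' := mem_Wg_of_monomial C hgm hπ'
    have hfixe : red (ZMod r) (wm C π') *ᵥ e = e := by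
      have := (system_iff hγ (wm C π') z 1).1 fun j => by
        simp only [← hz, zpow_one]
        rw [← chi_perm_simp C v π' j, chi_of_conj C hπ' h1, C.G.rho_simp, C.G.chi_single]
      simpa using this
    have h2 := nPerm_fmap C σ hgm hπ'
    rw [hψσ] at h2
    have h3 := Good.NPerm.unique C.G
      (Good.NPerm.mul C.G (Good.NPerm.mul C.G (Good.NPerm.inv C.G hπ) hπ') hπ) h2
    have h4 : Commute N (wm C π') := by
      rw [Commute, SemiconjBy, hNdef, ← wm_mul C hπW', ← wm_mul C hπW]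
      rw [mul_assoc, inv_mul_eq_iff_eq_mul] at h3
      rw [h3]
    have h5 : wm C π' = 1 :=
      eq_one_of_commute_fix (by omega) hW N _ hN (wm_pow_card C hπW') h4 e he hfixe
    exact C.G.mem_H_of_nPerm_one hgm (eq_one_of_wm C hπW' h5 ▸ hπ')
  -- the system of equations
  set R := (q : ℤ) • (1 : Matrix (Fin D.rank) (Fin D.rank) ℤ) - N with hR
  have hsys : ∀ u : Fin D.rank → Kˣ, (∀ j, ∏ k, u k ^ ((q : ℤ) • (1 : Matrix (Fin D.rank) (Fin D.rank) ℤ) - N) j k = 1) ↔
      m * C.G.tor (fun k => u k ^ q) = C.G.tor u * m := by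
    intro u
    simp only [hR, prod_zpow_sub]
    constructor
    · intro hu
      exact conj_of_chi C hn hπ fun j => by rw [chi_perm_simp, ← hNdef, hu j, zpow_natCast]
    · intro hu j
      rw [hNdef, ← chi_perm_simp C u π j, chi_of_conj C hπ hu, C.G.rho_simp, C.G.chi_single,
        zpow_natCast]
  have hto : ∀ g : S, ∃ u, ψ g = C.G.tor u ∧
      ∀ j, ∏ k, u k ^ ((q : ℤ) • (1 : Matrix (Fin D.rank) (Fin D.rank) ℤ) - N) j k = 1 := by
    intro g
    obtain ⟨u, hu⟩ := C.G.exists_tor g.2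
    refine ⟨u, hu, (hsys u).2 ?_⟩
    have h1 := hψσ g
    rw [hu, hσtor] at h1
    rw [h1]
    group
  choose toU htoU htoUsys using hto
  let Ψ : S → {u : Fin D.rank → Kˣ // ∀ j, ∏ k, u k ^ ((q : ℤ) • (1 : Matrix (Fin D.rank) (Fin D.rank) ℤ) - N) j k = 1} :=
    fun g => ⟨toU g, htoUsys g⟩
  have htoU_inj : Function.Injective toU := fun a b hab => by
    have := htoU a
    rw [hab, ← htoU b] at this
    exact Subtype.ext (hψinj this)
  have hΨ : Function.Bijective Ψ := by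
    refine ⟨fun a b hab => htoU_inj (congrArg Subtype.val hab), fun ⟨u, hu⟩ => ?_⟩
    have h1 := (hsys u).1 hu
    have hy : c * C.G.tor u * c⁻¹ ∈ D.group K :=
      mul_mem (mul_mem hc (C.G.diagonal_le_group (htmem u))) (inv_mem hc)
    have hyσ : fmap D σ (c * C.G.tor u * c⁻¹) = c * C.G.tor u * c⁻¹ := by
      rw [map_mul, map_mul, map_inv, hσtor, show fmap D σ c = c * m by rw [hm, mul_inv_cancel_left],
        mul_inv_rev, mul_assoc c m, h1]
      group
    obtain ⟨g₀, hg₀, hg₁⟩ :=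
      C.fixed_mem_range σ ι hfix (C.G.torθ_injective T hT (by rw [hk, pow_zero])) hy hyσ
    have h2 : ψ ⟨g₀, hg₀⟩ = C.G.tor u := by rw [hψ, hg₁]; group
    have h3 : (⟨g₀, hg₀⟩ : ↥(D.group F)) ∈ S := by show ψ _ ∈ D.diagonalSubgroup K; rw [h2]; exact htmem u
    exact ⟨⟨_, h3⟩, Subtype.ext (tor_inj C ((htoU ⟨_, h3⟩).symm.trans h2))⟩
  -- the order
  have hcomm : Commute ((q : ℤ) • (1 : Matrix (Fin D.rank) (Fin D.rank) ℤ)) N :=
    (Commute.one_left N).smul_left _
  have hRR : R * (∑ i ∈ Finset.range h, ((q : ℤ) • (1 : Matrix (Fin D.rank) (Fin D.rank) ℤ)) ^ i * N ^ (h - 1 - i)) =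
      (Nat.card Kˣ : ℤ) • 1 := by
    rw [hR, hcomm.mul_geom_sum₂, pow_eq_one_of_charpoly N hN, smul_pow, one_pow, hcardU,
      Nat.cast_sub (Nat.one_le_pow _ _ Fintype.card_pos), sub_smul, Nat.cast_pow, Nat.cast_one,
      one_smul]
  have hdetR : R.det = (Polynomial.cyclotomic h ℤ).eval (q : ℤ) := by
    rw [hR, ← hN, Matrix.eval_charpoly, Matrix.scalar_apply, ← Matrix.smul_one_eq_diagonal]
  have hdet0 : R.det ≠ 0 := by
    intro h0
    have h1 := congrArg Matrix.det hRR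
    rw [Matrix.det_mul, h0, zero_mul, Matrix.det_smul, Matrix.det_one, mul_one] at h1
    have : Nat.card Kˣ ≠ 0 := Nat.card_pos.ne'
    exact pow_ne_zero _ (by exact_mod_cast this) h1.symm
  have hcard : Nat.card S = ((Polynomial.cyclotomic h ℤ).eval (q : ℤ)).natAbs := by
    rw [Nat.card_eq_of_bijective Ψ hΨ, card_system R _ hRR hdet0, hdetR]
  have hS : Subgroup.centralizer {x₀} = S := le_antisymm
    (fun g hg => hcent g (Subgroup.mem_centralizer_singleton_iff.1 hg))
    fun g hg => Subgroup.mem_centralizer_singleton_iff.2 (hScomm g hg x₀ hxS)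
  rw [hS]
  refine ⟨?_, hcard, fun g j hg i₀ => ?_⟩
  · -- cyclic
    refine isCyclic_of_prime_torsion (fun a b => Subtype.ext (hScomm _ a.2 _ b.2)) fun ℓ hℓ => ?_
    haveI := Fact.mk hℓ
    haveI : Finite (GL D.Idx F) := inferInstance
    by_cases hdiv : ℓ ∣ Nat.card S
    · by_cases hℓh : ℓ ∣ h
      · let P : Subgroup S :=
          { carrier := {a | a ^ ℓ = 1}
            one_mem' := one_pow ℓ
            mul_mem' := fun {a b} ha hb => by
              show (a * b) ^ ℓ = 1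
              rw [(show Commute a b from Subtype.ext (hScomm _ a.2 _ b.2)).mul_pow, ha, hb, one_mul]
            inv_mem' := fun {a} ha => by
              show a⁻¹ ^ ℓ = 1
              rw [inv_pow, ha, inv_one] }
        have hP : IsPGroup ℓ P := fun a => ⟨1, Subtype.ext (by rw [pow_one]; exact a.2)⟩
        obtain ⟨k, hk'⟩ := IsPGroup.iff_card.1 hP
        have hdvd := Subgroup.card_subgroup_dvd_card P
        rw [hk', hcard] at hdvd
        have : k ≤ 1 := by
          by_contra hk2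
          exact hsep ℓ hℓ hℓh ((pow_dvd_pow ℓ (by omega)).trans hdvd)
        calc Nat.card {a : S // a ^ ℓ = 1} = Nat.card P := rfl
          _ = ℓ ^ k := hk'
          _ ≤ ℓ ^ 1 := Nat.pow_le_pow_right hℓ.pos this
          _ = ℓ := pow_one ℓ
      · obtain ⟨δ, hδ'⟩ : ∃ δ : Kˣ, orderOf δ = ℓ := by
          refine exists_prime_orderOf_dvd_card' ℓ (hdiv.trans ?_)
          rw [hcard, ← Int.natCast_dvd_natCast, Int.natAbs_dvd, hcardU,
            Nat.cast_sub (Nat.one_le_pow _ _ Fintype.card_pos), Nat.cast_pow, Nat.cast_one]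
          obtain ⟨cof, hcof⟩ := Polynomial.cyclotomic.dvd_X_pow_sub_one h ℤ
          exact ⟨cof.eval (q : ℤ), by rw [← Polynomial.eval_mul, ← hcof]; simp [hq]⟩
        have hδ : IsPrimitiveRoot δ ℓ := hδ' ▸ IsPrimitiveRoot.orderOf δ
        have hex : ∀ (a : {a : S // a ^ ℓ = 1}) k, ∃ j : ℕ, δ ^ j = toU a.1 k := fun a k => by
          have h1 : (toU a.1) ^ ℓ = 1 := by
            refine C.G.tor_eq_one ?_
            rw [map_pow, ← htoU, ← map_pow, ← Subgroup.coe_pow, a.2, Subgroup.coe_one, map_one]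
          obtain ⟨j, -, hj⟩ := (IsPrimitiveRoot.coe_units_iff.2 hδ).eq_pow_of_pow_eq_one
            (show (toU a.1 k : K) ^ ℓ = 1 by
              rw [← Units.val_pow_eq_pow_val, ← Pi.pow_apply, h1]; rfl)
          exact ⟨j, Units.ext (by rw [Units.val_pow_eq_pow_val, hj])⟩
        choose j hj using hex
        have heig : ∀ a, red (ZMod ℓ) N *ᵥ (fun k => (((j a k : ℕ) : ℤ) : ZMod ℓ)) =
            ((q : ℤ) : ZMod ℓ) • fun k => (((j a k : ℕ) : ℤ) : ZMod ℓ) := fun a => by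
          refine (system_iff hδ N (fun k => (j a k : ℤ)) (q : ℤ)).1 fun k => ?_
          simp only [zpow_natCast δ, hj]
          exact (prod_zpow_sub _ _ _ _).1 (htoUsys a.1 k)
        refine le_trans ?_ (card_eigen_le N hN ℓ hℓh ((q : ℤ) : ZMod ℓ))
        refine Nat.card_le_card_of_injective (fun a => ⟨_, heig a⟩) fun a b hab => ?_
        have h2 := congrArg Subtype.val hab
        refine Subtype.ext (htoU_inj (funext fun k => ?_))
        rw [← hj a k, ← hj b k, ← zpow_natCast δ (j a k), ← zpow_natCast δ (j b k),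
          ← mul_inv_eq_one, ← zpow_sub, hδ.zpow_eq_one_iff_dvd]
        exact (ZMod.intCast_eq_intCast_iff_dvd_sub _ _ _).1 (congrFun h2 k).symm
    · haveI : Subsingleton {a : S // a ^ ℓ = 1} := by
        refine ⟨fun a b => Subtype.ext ?_⟩
        have key : ∀ a : {a : S // a ^ ℓ = 1}, a.1 = 1 := fun a => by
          rw [← orderOf_eq_one_iff]
          rcases (Nat.dvd_prime hℓ).1 (orderOf_dvd_of_pow_eq_one a.2) with h1 | h1
          · exact h1
          · exact absurd (h1 ▸ orderOf_dvd_natCard a.1) hdiv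
        rw [key a, key b]
      exact (Finite.card_le_one_iff_subsingleton.2 inferInstance).trans hℓ.one_lt.le
  · -- the automorphisms induced by the normaliser
    have hpow : ψ x₀ ^ j = C.G.tor (fun k => v k ^ j) := by
      rw [hψx, ← map_pow]
      rfl
    have h1 : ψ g * C.G.tor (fun k => v k ^ j) = C.G.tor v * ψ g := by
      rw [← hpow, ← map_pow, ← hg, map_mul, map_mul, map_inv, ← hψx]
      group
    obtain ⟨w', hw', n', hn', π', hπ', u', hu', hgn, hnv', hbw', hau'⟩ :=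
      twist C (hψG g) (htmem _) (htmem v) h1
    have hregj : Reg C (fun k => v k ^ j) := fun s => by
      rw [← chi_of_conj C hπ' hnv']
      exact hreg _
    rw [reg_posUnipotent C hreg hw' hbw', reg_posUnipotent C hregj hu' hau', one_mul, mul_one] at hgn
    rw [← hgn] at hn' hπ' hnv'
    have hπW' := mem_Wg_of_monomial C hn' hπ'
    have hev' : red (ZMod r) (wm C π') *ᵥ e = (j : ZMod r) • e := by
      have := (system_iff hγ (wm C π') z (j : ℤ)).1 fun k => by
        simp only [← hz]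
        rw [← chi_perm_simp C v π' k, chi_of_conj C hπ' hnv', C.G.rho_simp, C.G.chi_single,
          zpow_natCast]
      simpa using this
    have hWn := mul_mem hπW' (pow_mem hπW i₀)
    refine totient_le_of_eigen (wm C (π' * π ^ i₀)) (wm_pow_card C hWn) hW e he
      (IsPrimitiveRoot.orderOf _) ?_
    rw [wm_mul C hπW', wm_pow C hπW, map_mul, map_pow, ← Matrix.mulVec_mulVec, hev', Matrix.mulVec_smul,
      pow_mulVec_eigen hev, smul_smul, mul_comm]


/-- the torus of Coxeter type -/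
theorem exists_cox_subgroup {T : KerData D.rank} (hT : T.Ok (cmat D)) (hk : T.k = 0)
    {dg : Fin D.rank → ℕ} (hdg : HasDegrees C dg) {h : ℕ} (hh : 1 < h)
    (htot : Nat.totient h = D.rank) (hdeg : ∃ i, h ∣ dg i) {r : ℕ} (hr : r.Prime)
    (hrdg : ∀ i, ¬ r ∣ dg i) (U : Matrix (Fin D.rank) (Fin D.rank) ℤ)
    (hU : ∀ i j, j < i → U i j = 0) (Δ : Fin D.rank → ℕ) {B : ℕ}
    (hroot : ∀ s, qlen U Δ (C.G.rho s) ≤ B)
    (hbound : (B : ℤ) ^ D.rank < (r : ℤ) ^ 2 * ((∏ k, U k k) ^ 2 * ∏ k, (Δ k : ℤ)))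
    (hprim : IsPrimitiveRoot ((Fintype.card F : ℕ) : ZMod r) h)
    (hsep : ∀ ℓ : ℕ, ℓ.Prime → ℓ ∣ h →
      ¬ ℓ ^ 2 ∣ ((Polynomial.cyclotomic h ℤ).eval (Fintype.card F : ℤ)).natAbs) :
    ∃ H : Subgroup ↥(D.group F), IsCyclic ↥H ∧
      Nat.card ↥H = ((Polynomial.cyclotomic h ℤ).eval (Fintype.card F : ℤ)).natAbs ∧
      Subgroup.centralizer (H : Set ↥(D.group F)) = H := by
  haveI := Fact.mk hr
  obtain ⟨x₀, hx₀⟩ := exists_prime_order C hT hk hdg hr hh hdeg hprim
  obtain ⟨hcyc, hcard, -⟩ :=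
    cox_centralizer C hT hk hdg hh htot hr hrdg U hU Δ hroot hbound hprim hsep x₀ hx₀
  refine ⟨_, hcyc, hcard, le_antisymm ?_ ?_⟩
  · exact Subgroup.centralizer_le (by simp [Subgroup.mem_centralizer_singleton_iff])
  · intro g hg
    refine Subgroup.mem_centralizer_iff.2 fun b hb => ?_
    obtain ⟨c₀, hc₀⟩ := hcyc.exists_generator
    obtain ⟨a, ha⟩ := Subgroup.mem_zpowers_iff.1 (hc₀ ⟨g, hg⟩)
    obtain ⟨a', ha'⟩ := Subgroup.mem_zpowers_iff.1 (hc₀ ⟨b, hb⟩)
    have := ((Commute.refl c₀).zpow_zpow a' a).eq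
    rw [ha, ha'] at this
    exact congrArg Subtype.val this

end

end CfsgLib.Lie.CoxTorus
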